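import Groth.Agent.Lib.Wronsk.System

/-!
Pairs of vanishing conditions on the pointed line.
-/

set_option linter.style.haveILetI false

namespace Wronsk

open Polynomial

variable {k : Type*} [Field k]

lemma mem_span_mul_iff {p q : k} (hpq : p ≠ q) {i j : ℕ} {P : k[X]} :
    P ∈ (Ideal.span {(X - C p) ^ i * (X - C q) ^ j}).restrictScalars k ↔ P ∈ I p i ∧ P ∈ I q j := by
  rw [Submodule.restrictScalars_mem, Ideal.mem_span_singleton, mem_I, mem_I]
  constructor
  · intro h; exact ⟨(dvd_mul_right _ _).trans h, (dvd_mul_left _ _).trans h⟩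
  · rintro ⟨h1, h2⟩
    exact ((isCoprime_X_sub_C_of_isUnit_sub (sub_ne_zero.2 hpq).isUnit).pow).mul_dvd h1 h2

lemma span_mul_self {p : k} {i j : ℕ} :
    (Ideal.span {(X - C p) ^ i * (X - C p) ^ j}).restrictScalars k = I p (i + j) := by
  rw [← pow_add]

lemma eq_zero_of_two_dvd {p q : k} (hpq : p ≠ q) {i j : ℕ} {P : k[X]} {M : ℕ}
    (hP : P ∈ degreeLT k M) (h1 : (X - C p) ^ i ∣ P) (h2 : (X - C q) ^ j ∣ P) (hM : M ≤ i + j) :
    P = 0 := by
  by_contra h0
  have h := natDegree_le_of_dvd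
    (((isCoprime_X_sub_C_of_isUnit_sub (sub_ne_zero.2 hpq).isUnit).pow).mul_dvd h1 h2) h0
  rw [natDegree_mul (pow_ne_zero _ (X_sub_C_ne_zero p)) (pow_ne_zero _ (X_sub_C_ne_zero q)),
    natDegree_pow, natDegree_pow, natDegree_X_sub_C, natDegree_X_sub_C] at h
  rcases mem_degreeLT_iff.1 hP with h' | h'
  · exact h0 h'
  · omega

variable [CharZero k] {m : ℕ} (r : Fin m → k) (a : Fin m → ℕ) {b N : ℕ}

/-- two unmarked points -/
lemma two_unmarked (hr : Function.Injective r) (hN : N = (∑ j, a j) + b) {p q : k}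
    (hp : ∀ j, p ≠ r j) (hq : ∀ j, q ≠ r j) (hpq : p ≠ q) {n n' : ℕ} (hn : N ≤ n + n' + 1) :
    Module.finrank k (V r a b ⊓ I p n ⊓ I q n' : Submodule k k[X]) ≤ 1 := by
  haveI := V_finiteDimensional r a hr (b := b)
  haveI : FiniteDimensional k (V r a b ⊓ I p n : Submodule k k[X]) :=
    Submodule.finiteDimensional_inf_left _ _
  haveI : FiniteDimensional k (V r a b ⊓ I p n ⊓ I q n' : Submodule k k[X]) :=
    Submodule.finiteDimensional_inf_left _ _
  have hrep : ∀ x ∈ (V r a b ⊓ I p n ⊓ I q n' : Submodule k k[X]), ∃ P c,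
      P ∈ degreeLT k (N + 1) ∧ (X - C p) ^ (n + 1) ∣ P ∧ (X - C q) ^ (n' + 1) ∣ P - C c * E r a ∧
        φ r a P = x := by
    intro x hx
    have hx1 := hx.1
    rw [inf_I_unmarked r a hr hN hp] at hx1
    obtain ⟨P, ⟨hP, hP'⟩, rfl⟩ := hx1
    obtain ⟨c, hc⟩ := (dvd_φ_unmarked r a hq n' P).1 (mem_I.1 hx.2)
    exact ⟨P, c, hP, mem_I.1 hP', hc, rfl⟩
  by_cases hall : ∀ x ∈ (V r a b ⊓ I p n ⊓ I q n' : Submodule k k[X]), x = 0
  · rw [(Submodule.eq_bot_iff _).2 hall, finrank_bot]; exact zero_le_one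
  push Not at hall
  obtain ⟨x, hx, hx0⟩ := hall
  obtain ⟨P, c, hP, hPp, hPq, rfl⟩ := hrep x hx
  have hc : c ≠ 0 := by
    intro h
    rw [h, map_zero, zero_mul, sub_zero] at hPq
    exact hx0 (by rw [eq_zero_of_two_dvd hpq hP hPp hPq (by omega), map_zero])
  refine finrank_le_one ⟨_, hx⟩ fun ⟨y, hy⟩ => ?_
  obtain ⟨Q, d, hQ, hQp, hQq, rfl⟩ := hrep y hy
  refine ⟨d / c, Subtype.ext ?_⟩
  show (d / c) • φ r a P = φ r a Q
  have h0 : (d / c) • P - Q = 0 := by
    refine eq_zero_of_two_dvd hpq (i := n + 1) (j := n' + 1) (Submodule.sub_mem _ (Submodule.smul_mem _ _ hP) hQ)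
      ?_ ?_ (by omega)
    · rw [smul_eq_C_mul]; exact dvd_sub (hPp.mul_left _) hQp
    · have : (d / c) • P - Q = C (d / c) * (P - C c * E r a) - (Q - C d * E r a) := by
        have hd : C (d / c) * C c = (C d : k[X]) := by rw [← map_mul, div_mul_cancel₀ _ hc]
        rw [smul_eq_C_mul]
        linear_combination (E r a) * hd
      rw [this]; exact dvd_sub (hPq.mul_left _) hQq
  rw [← map_smul, sub_eq_zero.1 h0]

/-- a marked point below its order and any other point -/
lemma marked_low (hr : Function.Injective r) (hN : N = (∑ j, a j) + b) (i : Fin m) {n : ℕ}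
    (hn : n ≤ a i) (J A : Submodule k k[X]) (hJ : ∀ P, φ r a P ∈ J ↔ ∃ c, P - C c * E r a ∈ A) :
    V r a b ⊓ I (r i) n ⊓ J = (degreeLT k (N + 1) ⊓ (I (r i) n ⊓ A)).map (φ r a) := by
  rw [inf_assoc]
  refine inf_eq_map r a hr hN _ _ fun P => ?_
  have hE : E r a ∈ I (r i) n := by
    rw [mem_I, E]
    exact (pow_dvd_pow _ hn).trans
      (Finset.dvd_prod_of_mem (fun j => (X - C (r j)) ^ (a j)) (Finset.mem_univ i))
  constructor
  · rintro ⟨h1, h2⟩
    obtain ⟨c, hc⟩ := (dvd_φ_marked r a hr i n P).1 (mem_I.1 h1)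
    obtain ⟨d, hd⟩ := (hJ P).1 h2
    refine ⟨d, ?_, hd⟩
    have : P - C d * E r a = (P - C c * E r a) + (c - d) • E r a := by
      rw [smul_eq_C_mul, map_sub]; ring
    rw [this]
    exact add_mem (mem_I.2 hc) (Submodule.smul_mem _ _ hE)
  · rintro ⟨c, h1, h2⟩
    exact ⟨mem_I.2 ((dvd_φ_marked r a hr i n P).2 ⟨c, mem_I.1 h1⟩), (hJ P).2 ⟨c, h2⟩⟩

/-- the three-pointed line -/
lemma three_pointed_eq (a b : ℕ) :
    ((Ideal.span {(X : k[X]) ^ (a + 1)}).restrictScalars k ⊓ Polynomial.degreeLE k ↑(a + b)) ⊔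
      ((Ideal.span {((X : k[X]) - 1) ^ (b + 1)}).restrictScalars k ⊓ Polynomial.degreeLE k ↑(a + b)) ⊔
      Submodule.span k {(X : k[X]) ^ (a + 1) * (X - 1) ^ (b + 1)} =
    V ![(0 : k), 1] ![a, b] 1 := by
  classical
  have hle : ∀ (c : k) (n l : ℕ), (Ideal.span {((X : k[X]) - C c) ^ n}).restrictScalars k ⊓
      Polynomial.degreeLE k ↑(n + l - 1) = (degreeLT k l).map (LinearMap.mulLeft k ((X - C c) ^ n)) ∨
      n + l = 0 := by
    intro c n l
    rcases Nat.eq_zero_or_pos (n + l) with h | h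
    · exact Or.inr h
    left
    rw [show Polynomial.degreeLE k ((n + l - 1 : ℕ) : WithBot ℕ) = degreeLT k (n + l) by
      ext P
      rw [mem_degreeLE, mem_degreeLT_iff]
      by_cases h0 : P = 0
      · simp [h0]
      · rw [← natDegree_le_iff_degree_le]; simp only [h0, false_or]; omega]
    rw [inf_comm, ← Nat.add_sub_cancel_left (n := n) (m := l)]
    rw [Nat.add_sub_cancel_left]
    have := degreeLT_inf_I c n (n + l)
    rwa [Nat.add_sub_cancel_left] at this
  have e1 := (hle 0 (a + 1) b).resolve_right (by omega)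
  have e2 := (hle 1 (b + 1) a).resolve_right (by omega)
  rw [map_zero, sub_zero, show a + 1 + b - 1 = a + b by omega] at e1
  rw [map_one, show b + 1 + a - 1 = a + b by omega] at e2
  rw [e1, e2]
  have p0 : ∏ j ∈ (Finset.univ : Finset (Fin 2)).erase 0, (X - C (![(0 : k), 1] j)) ^ (![a, b] j + 1) =
      (X - 1) ^ (b + 1) := by
    rw [show (Finset.univ : Finset (Fin 2)).erase 0 = {1} by decide, Finset.prod_singleton]
    simp
  have p1 : ∏ j ∈ (Finset.univ : Finset (Fin 2)).erase 1, (X - C (![(0 : k), 1] j)) ^ (![a, b] j + 1) =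
      X ^ (a + 1) := by
    rw [show (Finset.univ : Finset (Fin 2)).erase 1 = {0} by decide, Finset.prod_singleton]
    simp
  have pu : ∏ j : Fin 2, (X - C (![(0 : k), 1] j)) ^ (![a, b] j + 1) =
      X ^ (a + 1) * (X - 1) ^ (b + 1) := by
    rw [Fin.prod_univ_two]; simp
  have hs : (degreeLT k 1).map (LinearMap.mulLeft k ((X : k[X]) ^ (a + 1) * (X - 1) ^ (b + 1))) =
      Submodule.span k {(X : k[X]) ^ (a + 1) * (X - 1) ^ (b + 1)} := by
    rw [degreeLT_eq_span_X_pow, Submodule.map_span]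
    simp
  rw [V, pu, hs, iSup_fin_two]
  · rw [p0, p1]
    simp only [Matrix.cons_val_zero, Matrix.cons_val_one, Matrix.cons_val_fin_one]
    ac_rfl
where
  iSup_fin_two {f : Fin 2 → Submodule k k[X]} : ⨆ i, f i = f 0 ⊔ f 1 := by
    refine le_antisymm (iSup_le fun i => ?_) (sup_le (le_iSup f 0) (le_iSup f 1))
    fin_cases i
    · exact le_sup_left
    · exact le_sup_right

lemma inj01 : Function.Injective ![(0 : k), 1] := by
  intro i j h
  fin_cases i <;> fin_cases j <;> simp at h ⊢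

theorem no_pair (a b i j : ℕ) (hi : 0 < i) (hj' : 0 < j) (hj : i + j = a + b + 2) (p q : k)
    (hp0 : p ≠ 0) (hp1 : p ≠ 1) (hq0 : q ≠ 0) (hq1 : q ≠ 1)
    (h1 : 1 ≤ Module.finrank k ↥(V ![(0 : k), 1] ![a, b] 1 ⊓
      (Ideal.span {(X - C p) ^ i * (X - C q) ^ j}).restrictScalars k))
    (h2 : 2 ≤ Module.finrank k ↥(V ![(0 : k), 1] ![a, b] 1 ⊓
      (Ideal.span {(X - C p) ^ (i - 1) * (X - C q) ^ (j - 1)}).restrictScalars k)) : False := by
  have hr := inj01 (k := k)
  have hN : a + b + 1 = (∑ l, ![a, b] l) + 1 := by simp [Fin.sum_univ_two]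
  have hp : ∀ l, p ≠ ![(0 : k), 1] l := by intro l; fin_cases l <;> simpa
  have hq : ∀ l, q ≠ ![(0 : k), 1] l := by intro l; fin_cases l <;> simpa
  by_cases hpq : p = q
  · subst hpq
    rw [span_mul_self] at h1
    rw [finrank_V_unmarked _ _ hr hN hp] at h1
    omega
  · have heq : V ![(0 : k), 1] ![a, b] 1 ⊓
        (Ideal.span {(X - C p) ^ (i - 1) * (X - C q) ^ (j - 1)}).restrictScalars k =
        V ![(0 : k), 1] ![a, b] 1 ⊓ I p (i - 1) ⊓ I q (j - 1) := by
      ext P
      simp only [Submodule.mem_inf, mem_span_mul_iff hpq, and_assoc]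
    rw [heq] at h2
    have := two_unmarked _ _ hr hN hp hq hpq (n := i - 1) (n' := j - 1) (by omega)
    omega

theorem le_of_pair (a b i j : ℕ) (hi : 0 < i) (hj : i + j = a + b + 2) (q : k)
    (h1 : 1 ≤ Module.finrank k ↥(V ![(0 : k), 1] ![a, b] 1 ⊓
      (Ideal.span {(X : k[X]) ^ i * (X - C q) ^ j}).restrictScalars k))
    (h2 : 2 ≤ Module.finrank k ↥(V ![(0 : k), 1] ![a, b] 1 ⊓
      (Ideal.span {(X : k[X]) ^ (i - 1) * (X - C q) ^ (j - 1)}).restrictScalars k)) :
    a + 1 ≤ i := by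
  by_contra hia
  have hr := inj01 (k := k)
  set r := ![(0 : k), 1] with hrdef
  set e := ![a, b] with hedef
  have hN : a + b + 1 = (∑ l, e l) + 1 := by simp [hedef, Fin.sum_univ_two]
  have hX : ∀ n : ℕ, (X : k[X]) ^ n = (X - C (r 0)) ^ n := fun n => by simp [hrdef]
  have he0 : e 0 = a := by simp [hedef]
  rw [hX] at h1 h2
  haveI := V_finiteDimensional r e hr (b := 1)
  by_cases hq0 : q = r 0
  · subst hq0
    rw [span_mul_self, finrank_V_marked r e hr hN, he0, if_neg (by omega)] at h1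
    omega
  have heq : ∀ n n', V r e 1 ⊓
      (Ideal.span {(X - C (r 0)) ^ n * (X - C q) ^ n'}).restrictScalars k =
      V r e 1 ⊓ I (r 0) n ⊓ I q n' := fun n n' => by
    ext P
    simp only [Submodule.mem_inf, mem_span_mul_iff (Ne.symm hq0), and_assoc]
  rw [heq] at h1 h2
  by_cases hq1 : q = r 1
  · subst hq1
    rw [marked_low r e hr hN 0 (by omega) _ (I (r 1) j)
      (fun P => by simp only [mem_I]; exact dvd_φ_marked r e hr 1 j P)] at h1
    have hbot : (degreeLT k (a + b + 1 + 1) ⊓ (I (r 0) i ⊓ I (r 1) j) : Submodule k k[X]) = ⊥ :=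
      (Submodule.eq_bot_iff _).2 fun P hP =>
        eq_zero_of_two_dvd (Ne.symm hq0) hP.1 (mem_I.1 hP.2.1) (mem_I.1 hP.2.2) (by omega)
    rw [hbot, Submodule.map_bot, finrank_bot] at h1
    omega
  · have hq : ∀ l, q ≠ r l := by intro l; fin_cases l <;> assumption
    rw [marked_low r e hr hN 0 (by omega) _ (I q (j - 1 + 1))
      (fun P => by simp only [mem_I]; exact dvd_φ_unmarked r e hq (j - 1) P)] at h2
    set A := (degreeLT k (a + b + 1 + 1) ⊓ (I (r 0) (i - 1) ⊓ I q (j - 1 + 1)) : Submodule k k[X])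
    haveI : FiniteDimensional k A := Submodule.finiteDimensional_inf_left _ _
    have hA : Module.finrank k A ≤ 1 := by
      by_contra hlt
      haveI : FiniteDimensional k
          (degreeLT k (a + b + 1 + 1) ⊓ I (r 0) (i - 1) : Submodule k k[X]) :=
        Submodule.finiteDimensional_inf_left _ _
      -- kill one more order at `q`
      have hsub : A ≤ (degreeLT k (a + b + 1 + 1 - (j - 1 + 1) - (i - 1))).map
          (LinearMap.mulLeft k ((X - C (r 0)) ^ (i - 1) * (X - C q) ^ (j - 1 + 1))) := by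
        rintro P ⟨hP, hP0, hPq⟩
        obtain ⟨u, rfl⟩ := ((isCoprime_X_sub_C_of_isUnit_sub
          (sub_ne_zero.2 (Ne.symm hq0)).isUnit).pow).mul_dvd (mem_I.1 hP0) (mem_I.1 hPq)
        refine ⟨u, ?_, rfl⟩
        rw [SetLike.mem_coe, mem_degreeLT_iff]
        rcases mem_degreeLT_iff.1 hP with h | h
        · exact Or.inl ((mul_eq_zero.1 h).resolve_left
            (mul_ne_zero (pow_ne_zero _ (X_sub_C_ne_zero _)) (pow_ne_zero _ (X_sub_C_ne_zero _))))
        · by_cases hu : u = 0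
          · exact Or.inl hu
          rw [natDegree_mul (mul_ne_zero (pow_ne_zero _ (X_sub_C_ne_zero _))
            (pow_ne_zero _ (X_sub_C_ne_zero _))) hu, natDegree_mul (pow_ne_zero _ (X_sub_C_ne_zero _))
            (pow_ne_zero _ (X_sub_C_ne_zero _)), natDegree_pow, natDegree_pow, natDegree_X_sub_C,
            natDegree_X_sub_C] at h
          exact Or.inr (by omega)
      have h3 := (Submodule.finrank_mono hsub).trans (Submodule.finrank_map_le _ _)
      rw [(degreeLTEquiv k _).finrank_eq, Module.finrank_fin_fun] at h3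
      omega
    have h4 := Submodule.finrank_map_le (φ r e) A
    omega

theorem off_marked (a b i : ℕ) (hi : 0 < i) (hiab : i < a + b) (q : k) (hq : q ≠ 0) :
    Module.finrank k ↥(Polynomial.degreeLE k ↑(a + b - i) ⊓
      LinearMap.ker ((Polynomial.lcoeff k a).comp (LinearMap.mulLeft k (((X : k[X]) + 1) ^ i))) ⊓
      (Ideal.span {(X - C q) ^ (a + b - i - 1)}).restrictScalars k) ≤ 1 := by
  set r : Fin 1 → k := ![0]
  set e : Fin 1 → ℕ := ![a]
  have hr : Function.Injective r := Function.injective_of_subsingleton r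
  have hN : a + b = (∑ l, e l) + b := by simp [e]
  haveI := V_finiteDimensional r e hr (b := b)
  -- membership in the system
  have hV : ∀ h : k[X], h ∈ degreeLT k (a + b + 1) → h.coeff a = 0 → h ∈ V r e b := by
    intro h hdeg hca
    have hsplit := modByMonic_add_div h ((X : k[X]) ^ (a + 1))
    rw [← hsplit]
    refine add_mem (Submodule.mem_sup_right (Submodule.mem_iSup_of_mem 0
        ⟨h %ₘ X ^ (a + 1), ?_, by simp [r, e]⟩))
      (Submodule.mem_sup_left ⟨h /ₘ X ^ (a + 1), ?_, by simp [r, e]⟩)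
    · rw [SetLike.mem_coe, mem_degreeLT, degree_lt_iff_coeff_zero]
      intro l hl
      have hle : a ≤ l := by simpa [e] using hl
      rcases eq_or_lt_of_le hle with rfl | hlt
      · have h1 := congrArg (coeff · a) hsplit
        simp only [coeff_add] at h1
        rw [coeff_X_pow_mul', if_neg (by omega), add_zero, hca] at h1
        exact h1
      · refine coeff_eq_zero_of_degree_lt (lt_of_lt_of_le (degree_modByMonic_lt _ (monic_X_pow _)) ?_)
        rw [degree_X_pow]; exact_mod_cast hlt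
    · rw [SetLike.mem_coe, mem_degreeLT_iff]
      by_cases h0 : h /ₘ (X : k[X]) ^ (a + 1) = 0
      · exact Or.inl h0
      refine Or.inr ?_
      rw [natDegree_divByMonic _ (monic_X_pow _), natDegree_X_pow]
      rcases mem_degreeLT_iff.1 hdeg with h' | h'
      · exact absurd (by rw [h', zero_divByMonic]) h0
      · have : a + 1 ≤ h.natDegree := by
          by_contra hlt
          apply h0
          rw [divByMonic_eq_zero_iff (monic_X_pow _), degree_X_pow]
          exact lt_of_le_of_lt degree_le_natDegree (WithBot.coe_lt_coe.2 (show h.natDegree < a + 1 by omega))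
        omega
  set W := (Polynomial.degreeLE k ↑(a + b - i) ⊓
      LinearMap.ker ((Polynomial.lcoeff k a).comp (LinearMap.mulLeft k (((X : k[X]) + 1) ^ i))) ⊓
      (Ideal.span {(X - C q) ^ (a + b - i - 1)}).restrictScalars k)
  have hXp : ((X : k[X]) + 1) = X - C (-1 : k) := by simp
  have hp : ∀ l, (-1 : k) ≠ r l := by intro l; fin_cases l; simp [r]
  have hqm : ∀ l, q ≠ r l := by intro l; fin_cases l; simpa [r] using hq
  set J := (Ideal.span {((X : k[X]) - C (-1)) ^ i * (X - C q) ^ (a + b - i - 1)}).restrictScalars k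
  have hmap : ∀ u ∈ W, ((X : k[X]) + 1) ^ i * u ∈ V r e b ⊓ J := by
    rintro u ⟨⟨hu1, hu2⟩, hu3⟩
    obtain ⟨w, hw⟩ := Ideal.mem_span_singleton.1 hu3
    refine ⟨hV _ ?_ hu2, Ideal.mem_span_singleton.2 ⟨w, ?_⟩⟩
    · rw [SetLike.mem_coe, mem_degreeLE, ← natDegree_le_iff_degree_le] at hu1
      by_cases hu0 : ((X : k[X]) + 1) ^ i * u = 0
      · rw [hu0]; exact zero_mem _
      refine mem_degreeLT_iff.2 (Or.inr (lt_of_le_of_lt natDegree_mul_le ?_))
      rw [hXp, natDegree_pow, natDegree_X_sub_C]; omega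
    · rw [hw, ← hXp]; ring
  have hbound : Module.finrank k (V r e b ⊓ J : Submodule k k[X]) ≤ 1 := by
    by_cases hqp : q = -1
    · subst hqp
      rw [show J = I (-1) (i + (a + b - i - 1)) from span_mul_self, finrank_V_unmarked r e hr hN hp]
      omega
    · have : V r e b ⊓ J = V r e b ⊓ I (-1) i ⊓ I q (a + b - i - 1) := by
        ext P
        simp only [J, Submodule.mem_inf, mem_span_mul_iff (Ne.symm hqp), and_assoc]
      rw [this]
      exact two_unmarked r e hr hN hp hqm (Ne.symm hqp) (by omega)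
  haveI : FiniteDimensional k (V r e b ⊓ J : Submodule k k[X]) :=
    Submodule.finiteDimensional_inf_left _ _
  let L : W →ₗ[k] (V r e b ⊓ J : Submodule k k[X]) :=
    ((LinearMap.mulLeft k (((X : k[X]) + 1) ^ i)).comp W.subtype).codRestrict _ fun u => hmap _ u.2
  have hL : Function.Injective L := fun u v h => Subtype.ext (mul_left_cancel₀
    (by rw [hXp]; exact pow_ne_zero _ (X_sub_C_ne_zero _)) (congrArg Subtype.val h))
  exact (LinearMap.finrank_le_finrank_of_injective hL).trans hbound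

/-- membership in `k + X (X + 1) F` -/
lemma mem_two_plus_one (a : ℕ) (f : k[X]) :
    f ∈ Submodule.span k {(1 : k[X])} ⊔
      ((Ideal.span {(X : k[X]) * (X + 1)}).restrictScalars k ⊓ Polynomial.degreeLE k ↑(a + 1)) ↔
    f.natDegree ≤ a + 1 ∧ f.eval 0 = f.eval (-1) := by
  rw [Submodule.mem_sup]
  constructor
  · rintro ⟨y, hy, z, ⟨hz1, hz2⟩, rfl⟩
    obtain ⟨c, rfl⟩ := Submodule.mem_span_singleton.1 hy
    obtain ⟨w, rfl⟩ := Ideal.mem_span_singleton.1 hz1
    rw [SetLike.mem_coe, mem_degreeLE, ← natDegree_le_iff_degree_le] at hz2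
    refine ⟨(natDegree_add_le _ _).trans (max_le ?_ hz2), by simp⟩
    rw [smul_eq_C_mul, mul_one, natDegree_C]; exact Nat.zero_le _
  · rintro ⟨hdeg, hev⟩
    refine ⟨C (f.eval 0), Submodule.mem_span_singleton.2 ⟨f.eval 0, by rw [smul_eq_C_mul, mul_one]⟩,
      f - C (f.eval 0), ⟨Ideal.mem_span_singleton.2 ?_, ?_⟩, by ring⟩
    · refine IsCoprime.mul_dvd ⟨-1, 1, by ring⟩ ?_ ?_
      · rw [← sub_zero (X : k[X]), ← C_0, dvd_iff_isRoot]; simp [IsRoot]
      · rw [show (X : k[X]) + 1 = X - C (-1) by simp, dvd_iff_isRoot]; simp [IsRoot, hev]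
    · rw [SetLike.mem_coe, mem_degreeLE, ← natDegree_le_iff_degree_le]
      exact (natDegree_sub_le _ _).trans (max_le hdeg (by simp))

theorem two_plus_one (a : ℕ) (ha : 0 < a) (V' : Submodule k k[X])
    (hV : ∀ f, f ∈ V' ↔ f.natDegree ≤ a + 1 ∧ f.eval 0 = f.eval (-1)) :
    (∀ p : k, Module.finrank k ↥(V' ⊓ (Ideal.span {(X - C p) ^ a}).restrictScalars k) ≤ 1) ∧
      Module.finrank k ↥(V' ⊓ Polynomial.degreeLT k 2) ≤ 1 := by
  constructor
  · intro p
    set S := V' ⊓ (Ideal.span {(X - C p) ^ a}).restrictScalars k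
    have hS : S ≤ (degreeLT k 2).map (LinearMap.mulLeft k ((X - C p) ^ a)) := by
      rintro f ⟨hf, hf'⟩
      have : f ∈ degreeLT k (a + 2) ⊓ I p a :=
        ⟨mem_degreeLT_iff.2 (Or.inr (by have := ((hV f).1 hf).1; omega)), hf'⟩
      rwa [degreeLT_inf_I, Nat.add_sub_cancel_left] at this
    have h2 : Module.finrank k ((degreeLT k 2).map (LinearMap.mulLeft k ((X - C p) ^ a))) = 2 := by
      rw [← (Submodule.equivMapOfInjective _
        (mul_right_injective₀ (pow_ne_zero a (X_sub_C_ne_zero p))) _).finrank_eq,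
        (degreeLTEquiv k 2).finrank_eq, Module.finrank_fin_fun]
    have hlt := Submodule.finrank_lt_finrank_of_lt (lt_of_le_of_ne hS fun heq => by
      have e1 : (X - C p) ^ a * 1 ∈ S := heq ▸ ⟨1, mem_degreeLT_iff.2 (Or.inr (by simp)), rfl⟩
      have e2 : (X - C p) ^ a * X ∈ S := heq ▸ ⟨X, mem_degreeLT_iff.2 (Or.inr (by simp)), rfl⟩
      have h1 := ((hV _).1 e1.1).2
      have h2 := ((hV _).1 e2.1).2
      simp only [eval_mul, eval_pow, eval_sub, eval_X, eval_C, eval_one, mul_one, mul_zero,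
        zero_sub, mul_neg, zero_eq_neg] at h1 h2
      have hp1 : (-1 - p : k) = 0 := eq_zero_of_pow_eq_zero h2
      have hp0 : (-p : k) = 0 := eq_zero_of_pow_eq_zero (h1.trans h2)
      have : (1 : k) = 0 := by linear_combination hp0 - hp1
      exact one_ne_zero this)
    omega
  · have hsub : V' ⊓ Polynomial.degreeLT k 2 ≤ Submodule.span k {(1 : k[X])} := by
      rintro f ⟨hf, hf'⟩
      have hd : f.natDegree ≤ 1 := by
        rcases mem_degreeLT_iff.1 hf' with rfl | h
        · simp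
        · omega
      have he := ((hV f).1 hf).2
      rw [eq_X_add_C_of_natDegree_le_one hd] at he ⊢
      simp at he
      rw [he, map_zero, zero_mul, zero_add]
      exact Submodule.mem_span_singleton.2 ⟨f.coeff 0, by rw [smul_eq_C_mul, mul_one]⟩
    refine (Submodule.finrank_mono hsub).trans ?_
    rw [finrank_span_singleton one_ne_zero]

theorem three_le_iff (a i j : ℕ) (hi : 0 < i) (hj : 0 < j) (hij : i + j + 1 = a)
    (V' : Submodule k k[X])
    (hV : ∀ f, f ∈ V' ↔ f.natDegree ≤ a + 1 ∧ f.eval 0 = f.eval (-1)) (p q : k) :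
    3 ≤ Module.finrank k ↥(V' ⊓ (Ideal.span {(X - C p) ^ i * (X - C q) ^ j}).restrictScalars k) ↔
      (p = 0 ∧ q = -1) ∨ (p = -1 ∧ q = 0) := by
  set W := (X - C p) ^ i * (X - C q) ^ j with hW
  have hW0 : W ≠ 0 := mul_ne_zero (pow_ne_zero _ (X_sub_C_ne_zero p)) (pow_ne_zero _ (X_sub_C_ne_zero q))
  have hWd : W.natDegree = i + j := by
    rw [hW, natDegree_mul (pow_ne_zero _ (X_sub_C_ne_zero p)) (pow_ne_zero _ (X_sub_C_ne_zero q)),
      natDegree_pow, natDegree_pow, natDegree_X_sub_C, natDegree_X_sub_C, mul_one, mul_one]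
  set S := V' ⊓ (Ideal.span {W}).restrictScalars k
  set T := (degreeLT k 3).map (LinearMap.mulLeft k W)
  have hT : Module.finrank k T = 3 := by
    rw [← (Submodule.equivMapOfInjective _ (mul_right_injective₀ hW0) _).finrank_eq,
      (degreeLTEquiv k 3).finrank_eq, Module.finrank_fin_fun]
  have hS : S ≤ T := by
    rintro f ⟨hf, hf'⟩
    obtain ⟨u, rfl⟩ := Ideal.mem_span_singleton.1 hf'
    refine ⟨u, mem_degreeLT_iff.2 ?_, rfl⟩
    by_cases hu : u = 0
    · exact Or.inl hu
    have := ((hV _).1 hf).1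
    rw [natDegree_mul hW0 hu, hWd] at this
    exact Or.inr (by omega)
  have hiff : T ≤ S ↔ W.eval 0 = 0 ∧ W.eval (-1) = 0 := by
    constructor
    · intro h
      have e1 := ((hV _).1 (h ⟨1, mem_degreeLT_iff.2 (Or.inr (by simp)), rfl⟩).1).2
      have e2 := ((hV _).1 (h ⟨X, mem_degreeLT_iff.2 (Or.inr (by simp)), rfl⟩).1).2
      simp only [LinearMap.mulLeft_apply, eval_mul, eval_X, eval_one, mul_one, mul_zero, mul_neg,
        zero_eq_neg] at e1 e2
      exact ⟨e1.trans e2, e2⟩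
    · rintro ⟨h0, h1⟩ _ ⟨u, hu, rfl⟩
      refine ⟨(hV _).2 ⟨?_, by simp [h0, h1]⟩, Ideal.mem_span_singleton.2 (dvd_mul_right _ _)⟩
      refine natDegree_mul_le.trans ?_
      rcases mem_degreeLT_iff.1 hu with h' | h'
      · rw [h', natDegree_zero, hWd]; omega
      · rw [hWd]; omega
  have key : 3 ≤ Module.finrank k S ↔ T ≤ S := by
    constructor
    · intro h
      rw [Submodule.eq_of_le_of_finrank_le hS (by omega)]
    · intro h; rw [le_antisymm hS h, hT]
  rw [key, hiff]
  simp only [hW, eval_mul, eval_pow, eval_sub, eval_X, eval_C, mul_eq_zero,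
    pow_eq_zero_iff hi.ne', pow_eq_zero_iff hj.ne', zero_sub, neg_eq_zero, sub_eq_zero]
  constructor
  · rintro ⟨h0 | h0, h1 | h1⟩
    · subst h0; exact absurd h1.symm (by norm_num)
    · exact Or.inl ⟨h0, h1.symm⟩
    · exact Or.inr ⟨h1.symm, h0⟩
    · subst h0; exact absurd h1.symm (by norm_num)
  · rintro (⟨rfl, rfl⟩ | ⟨rfl, rfl⟩) <;> simp

end Wronsk
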