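import Mathlib

/-!
Linear systems of differentials of the second kind on the projective line, via `P ↦ D · (P / E)'`.
-/

namespace Wronsk

open Polynomial

variable {k : Type*} [Field k] [CharZero k] {m : ℕ} (r : Fin m → k) (a : Fin m → ℕ)

/-- `∏ (X - r_j)` -/
noncomputable def R : k[X] := ∏ j, (X - C (r j))

/-- `∏ (X - r_j) ^ a_j` -/
noncomputable def E : k[X] := ∏ j, (X - C (r j)) ^ (a j)

/-- `∑ a_i ∏_{j ≠ i} (X - r_j)` -/
noncomputable def G : k[X] := ∑ i, C (a i : k) * ∏ j ∈ Finset.univ.erase i, (X - C (r j))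

/-- the map `P ↦ D · (P / E)'` -/
noncomputable def φ : k[X] →ₗ[k] k[X] :=
  (LinearMap.mulLeft k (R r)).comp Polynomial.derivative - LinearMap.mulLeft k (G r a)

lemma φ_apply (P : k[X]) : φ r a P = R r * derivative P - G r a * P := rfl

lemma R_eq (i : Fin m) : R r = (X - C (r i)) * ∏ j ∈ Finset.univ.erase i, (X - C (r j)) :=
  (Finset.mul_prod_erase _ _ (Finset.mem_univ i)).symm

lemma φ_E : φ r a (E r a) = 0 := by
  rw [φ_apply, E, derivative_prod_finset, Finset.mul_sum, G, Finset.sum_mul, sub_eq_zero]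
  refine Finset.sum_congr rfl fun i _ => ?_
  rw [derivative_pow, derivative_X_sub_C, mul_one, R_eq r i,
    ← Finset.mul_prod_erase _ (fun j => (X - C (r j)) ^ (a j)) (Finset.mem_univ i)]
  rcases Nat.eq_zero_or_pos (a i) with h | h
  · simp [h]
  · obtain ⟨c, hc⟩ := Nat.exists_eq_succ_of_ne_zero h.ne'
    rw [hc, Nat.succ_sub_one, pow_succ]
    ring

lemma φ_mul (P Q : k[X]) : φ r a (P * Q) = φ r a P * Q + R r * P * derivative Q := by
  rw [φ_apply, φ_apply, derivative_mul]; ring

lemma E_monic : (E r a).Monic := monic_prod_of_monic _ _ fun _ _ => (monic_X_sub_C _).pow _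

lemma natDegree_E : (E r a).natDegree = ∑ j, a j := by
  rw [E, natDegree_prod_of_monic _ _ fun j _ => (monic_X_sub_C _).pow _]
  simp

lemma eval_E_ne_zero {q : k} (hq : ∀ j, q ≠ r j) : (E r a).eval q ≠ 0 := by
  simp only [E, eval_prod, eval_pow, eval_sub, eval_X, eval_C]
  exact Finset.prod_ne_zero_iff.2 fun j _ => pow_ne_zero _ (sub_ne_zero.2 (hq j))

lemma eval_R_ne_zero {q : k} (hq : ∀ j, q ≠ r j) : (R r).eval q ≠ 0 := by
  simp only [R, eval_prod, eval_sub, eval_X, eval_C]
  exact Finset.prod_ne_zero_iff.2 fun j _ => sub_ne_zero.2 (hq j)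

/-- the order formula at a point off the `r_j` -/
lemma unmarked_key {q : k} (hq : ∀ j, q ≠ r j) (P : k[X]) :
    (∀ n, (X - C q) ^ (n + 1) ∣ P → (X - C q) ^ n ∣ φ r a P) ∧
      (P ≠ 0 → P.eval q = 0 → ¬ (X - C q) ^ (P.rootMultiplicity q) ∣ φ r a P) := by
  constructor
  · rintro n ⟨u, rfl⟩
    rw [φ_apply, derivative_mul, derivative_pow, derivative_X_sub_C, mul_one, Nat.add_sub_cancel,
      pow_succ]
    exact ⟨R r * (C ((n + 1 : ℕ) : k) * u + (X - C q) * derivative u) - G r a * (X - C q) * u,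
      by ring⟩
  · intro hP h0
    set v := P.rootMultiplicity q with hv
    obtain ⟨u, hu, hu'⟩ := exists_eq_pow_rootMultiplicity_mul_and_not_dvd P hP q
    have hv0 : 0 < v := (rootMultiplicity_pos hP).2 h0
    obtain ⟨w, hw⟩ := Nat.exists_eq_succ_of_ne_zero hv0.ne'
    rintro ⟨c, hc⟩
    rw [← hv, hw] at hu
    rw [hw, hu, φ_apply, derivative_mul, derivative_pow, derivative_X_sub_C, mul_one,
      Nat.succ_sub_one, pow_succ] at hc
    have h := mul_left_cancel₀ (pow_ne_zero w (X_sub_C_ne_zero q))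
      (show (X - C q) ^ w * (R r * (C ((w + 1 : ℕ) : k) * u + (X - C q) * derivative u) -
        G r a * (X - C q) * u) = (X - C q) ^ w * ((X - C q) * c) by linear_combination hc)
    have h' := congrArg (eval q) h
    simp only [eval_sub, eval_mul, eval_add, eval_C, eval_X, sub_self, zero_mul, mul_zero,
      add_zero, sub_zero] at h'
    exact mul_ne_zero (eval_R_ne_zero r hq) (mul_ne_zero (Nat.cast_ne_zero.2 (Nat.succ_ne_zero w))
      fun h => hu' (dvd_iff_isRoot.2 h)) h'

/-- the order formula at `r i` -/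
lemma marked_key (hr : Function.Injective r) (i : Fin m) (P : k[X]) :
    (∀ n, (X - C (r i)) ^ n ∣ P → (X - C (r i)) ^ n ∣ φ r a P) ∧
      (P ≠ 0 → P.rootMultiplicity (r i) ≠ a i →
        ¬ (X - C (r i)) ^ (P.rootMultiplicity (r i) + 1) ∣ φ r a P) := by
  constructor
  · rintro n ⟨u, rfl⟩
    rw [φ_mul]
    refine dvd_add (Dvd.dvd.mul_right ?_ _) (Dvd.dvd.mul_right (dvd_mul_left _ _) _)
    rw [φ_apply, derivative_pow, derivative_X_sub_C, mul_one]
    refine dvd_sub ?_ (dvd_mul_left _ _)
    rcases Nat.eq_zero_or_pos n with h | h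
    · simp [h]
    · obtain ⟨c, rfl⟩ := Nat.exists_eq_succ_of_ne_zero h.ne'
      rw [R_eq r i, Nat.succ_sub_one, pow_succ]
      exact ⟨(∏ j ∈ Finset.univ.erase i, (X - C (r j))) * C ((c + 1 : ℕ) : k), by
        push_cast; ring⟩
  · intro hP hne
    set v := P.rootMultiplicity (r i) with hv
    set Y := X - C (r i)
    set Ri := ∏ j ∈ Finset.univ.erase i, (X - C (r j)) with hRi
    obtain ⟨u, hu, hu'⟩ := exists_eq_pow_rootMultiplicity_mul_and_not_dvd P hP (r i)
    rintro ⟨c, hc⟩
    rw [← hv] at hu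
    have hd : R r * derivative (Y ^ v) = C (v : k) * Ri * Y ^ v := by
      rw [derivative_pow, derivative_X_sub_C, mul_one, R_eq r i]
      rcases Nat.eq_zero_or_pos v with h | h
      · simp [h]
      · obtain ⟨w, hw⟩ := Nat.exists_eq_succ_of_ne_zero h.ne'
        rw [hw, Nat.succ_sub_one, pow_succ]; ring
    have h := mul_left_cancel₀ (pow_ne_zero v (X_sub_C_ne_zero (r i)))
      (show Y ^ v * (Y * Ri * derivative u + C (v : k) * Ri * u - G r a * u) = Y ^ v * (Y * c) by
        rw [hu, φ_apply, derivative_mul, mul_add, ← mul_assoc (R r), hd, pow_succ] at hc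
        have h2 : Y * Ri = R r := (R_eq r i).symm
        linear_combination hc + (Y ^ v * derivative u) * h2)
    have hRi0 : Ri.eval (r i) ≠ 0 := by
      simp only [hRi, eval_prod, eval_sub, eval_X, eval_C]
      exact Finset.prod_ne_zero_iff.2 fun j hj =>
        sub_ne_zero.2 (hr.ne (Finset.ne_of_mem_erase hj).symm)
    have hG : (G r a).eval (r i) = (a i : k) * Ri.eval (r i) := by
      rw [G, eval_finsetSum, Finset.sum_eq_single i]
      · rw [eval_mul, eval_C]
      · intro j _ hj
        rw [eval_mul, eval_prod, Finset.prod_eq_zero (Finset.mem_erase.2 ⟨hj.symm, Finset.mem_univ i⟩)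
          (by simp), mul_zero]
      · simp
    have h' := congrArg (eval (r i)) h
    simp only [Y, eval_sub, eval_mul, eval_add, eval_C, eval_X, sub_self, zero_mul, mul_zero,
      zero_add, hG] at h'
    have h'' : ((v : k) - (a i : k)) * (Ri.eval (r i) * u.eval (r i)) = 0 := by
      linear_combination h'
    exact mul_ne_zero (sub_ne_zero.2 (Nat.cast_injective.ne hne))
      (mul_ne_zero hRi0 fun h => hu' (dvd_iff_isRoot.2 h)) h''

/-- the kernel -/
lemma φ_eq_zero {P : k[X]} (h : φ r a P = 0) : ∃ c, P = C c * E r a := by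
  obtain ⟨q, hq⟩ := (Set.finite_range r).infinite_compl.nonempty
  have hq' : ∀ j, q ≠ r j := fun j e => hq ⟨j, e.symm⟩
  refine ⟨P.eval q / (E r a).eval q, ?_⟩
  by_contra hne
  have h0 : φ r a (P - C (P.eval q / (E r a).eval q) * E r a) = 0 := by
    rw [map_sub, h, ← smul_eq_C_mul, map_smul, φ_E, smul_zero, sub_zero]
  refine (unmarked_key r a hq' _).2 (sub_ne_zero.2 hne) ?_ (h0 ▸ dvd_zero _)
  simp [div_mul_cancel₀ _ (eval_E_ne_zero r a hq')]

lemma dvd_φ_unmarked {q : k} (hq : ∀ j, q ≠ r j) (n : ℕ) (P : k[X]) :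
    (X - C q) ^ n ∣ φ r a P ↔ ∃ c, (X - C q) ^ (n + 1) ∣ P - C c * E r a := by
  constructor
  · intro h
    refine ⟨P.eval q / (E r a).eval q, ?_⟩
    set P' := P - C (P.eval q / (E r a).eval q) * E r a with hP'
    by_cases h0 : P' = 0
    · rw [h0]; exact dvd_zero _
    have heq : φ r a P' = φ r a P := by
      rw [hP', map_sub, ← smul_eq_C_mul, map_smul, φ_E, smul_zero, sub_zero]
    have hev : P'.eval q = 0 := by
      simp [hP', div_mul_cancel₀ _ (eval_E_ne_zero r a hq)]
    refine (pow_dvd_pow _ ?_).trans (pow_rootMultiplicity_dvd P' q)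
    by_contra hlt
    exact (unmarked_key r a hq P').2 h0 hev (heq ▸ (pow_dvd_pow _ (by omega)).trans h)
  · rintro ⟨c, hc⟩
    have := (unmarked_key r a hq _).1 n hc
    rwa [map_sub, ← smul_eq_C_mul, map_smul, φ_E, smul_zero, sub_zero] at this

lemma dvd_φ_marked (hr : Function.Injective r) (i : Fin m) (n : ℕ) (P : k[X]) :
    (X - C (r i)) ^ n ∣ φ r a P ↔ ∃ c, (X - C (r i)) ^ n ∣ P - C c * E r a := by
  constructor
  · intro h
    suffices ∃ c, P - C c * E r a = 0 ∨ (P - C c * E r a).rootMultiplicity (r i) ≠ a i by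
      obtain ⟨c, hc⟩ := this
      refine ⟨c, ?_⟩
      by_cases h0 : P - C c * E r a = 0
      · rw [h0]; exact dvd_zero _
      have heq : φ r a (P - C c * E r a) = φ r a P := by
        rw [map_sub, ← smul_eq_C_mul, map_smul, φ_E, smul_zero, sub_zero]
      refine (pow_dvd_pow _ ?_).trans (pow_rootMultiplicity_dvd _ (r i))
      by_contra hlt
      exact (marked_key r a hr i _).2 h0 (hc.resolve_left h0)
        (heq ▸ (pow_dvd_pow _ (by omega)).trans h)
    by_cases hv : P = 0 ∨ P.rootMultiplicity (r i) ≠ a i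
    · exact ⟨0, by simpa using hv⟩
    push Not at hv
    obtain ⟨u, hu, hu'⟩ := exists_eq_pow_rootMultiplicity_mul_and_not_dvd P hv.1 (r i)
    rw [hv.2] at hu
    set Ei := ∏ j ∈ Finset.univ.erase i, (X - C (r j)) ^ (a j) with hEi
    have hE : E r a = (X - C (r i)) ^ (a i) * Ei :=
      (Finset.mul_prod_erase _ _ (Finset.mem_univ i)).symm
    have hEi0 : Ei.eval (r i) ≠ 0 := by
      simp only [hEi, eval_prod, eval_pow, eval_sub, eval_X, eval_C]
      exact Finset.prod_ne_zero_iff.2 fun j hj =>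
        pow_ne_zero _ (sub_ne_zero.2 (hr.ne (Finset.ne_of_mem_erase hj).symm))
    refine ⟨u.eval (r i) / Ei.eval (r i), ?_⟩
    set P' := P - C (u.eval (r i) / Ei.eval (r i)) * E r a
    by_cases h0 : P' = 0
    · exact Or.inl h0
    refine Or.inr (Nat.ne_of_gt ?_)
    rw [Nat.lt_iff_add_one_le, le_rootMultiplicity_iff h0]
    obtain ⟨w, hw⟩ : X - C (r i) ∣ u - C (u.eval (r i) / Ei.eval (r i)) * Ei :=
      dvd_iff_isRoot.2 (by simp [IsRoot, div_mul_cancel₀ _ hEi0])
    exact ⟨w, by simp only [P', hE]; rw [hu, pow_succ]; linear_combination (X - C (r i)) ^ (a i) * hw⟩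
  · rintro ⟨c, hc⟩
    have := (marked_key r a hr i _).1 n hc
    rwa [map_sub, ← smul_eq_C_mul, map_smul, φ_E, smul_zero, sub_zero] at this

lemma natDegree_R : (R r).natDegree = m := by
  rw [R, natDegree_prod_of_monic _ _ fun j _ => monic_X_sub_C _]
  simp

lemma coeff_G_top (v : ℕ) (hm : m = v + 1) : (G r a).coeff v = ((∑ j, a j : ℕ) : k) := by
  rw [G, finsetSum_coeff]
  push_cast
  refine Finset.sum_congr rfl fun i _ => ?_
  have hmon : (∏ j ∈ Finset.univ.erase i, (X - C (r j))).Monic :=
    monic_prod_of_monic _ _ fun _ _ => monic_X_sub_C _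
  have hdeg : (∏ j ∈ Finset.univ.erase i, (X - C (r j))).natDegree = v := by
    rw [natDegree_prod_of_monic _ _ fun j _ => monic_X_sub_C _]
    simp [Finset.card_erase_of_mem, hm]
  rw [coeff_C_mul]
  conv_lhs => rw [← hdeg, hmon.coeff_natDegree, mul_one]

lemma natDegree_G_lt (hm : m ≠ 0) : (G r a).natDegree ≤ m - 1 := by
  refine natDegree_sum_le_of_forall_le _ _ fun i _ => natDegree_C_mul_le _ _ |>.trans ?_
  rw [natDegree_prod_of_monic _ _ fun j _ => monic_X_sub_C _]
  simp [Finset.card_erase_of_mem]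

lemma φ_top {P : k[X]} (hP : P ≠ 0) (hv : P.natDegree ≠ ∑ j, a j) :
    φ r a P ≠ 0 ∧ (φ r a P).natDegree + 1 = P.natDegree + m := by
  set v := P.natDegree
  rcases Nat.eq_zero_or_pos m with rfl | hm
  · have : φ r a P = derivative P := by simp [φ_apply, R, G]
    rw [this]
    simp only [Finset.univ_eq_empty, Finset.sum_empty] at hv
    refine ⟨fun h => hv ?_, by rw [natDegree_derivative]; omega⟩
    exact natDegree_eq_zero_of_derivative_eq_zero h
  have hcoeff : (φ r a P).coeff (v + m - 1) = ((v : k) - ((∑ j, a j : ℕ) : k)) * P.leadingCoeff := by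
    rw [φ_apply, coeff_sub]
    obtain ⟨w, hw⟩ := Nat.exists_eq_succ_of_ne_zero hm.ne'
    have h2 : (G r a * P).coeff (v + m - 1) = ((∑ j, a j : ℕ) : k) * P.leadingCoeff := by
      rw [show v + m - 1 = w + v by omega, coeff_mul_add_eq_of_natDegree_le
        ((natDegree_G_lt r a hm.ne').trans (by omega)) le_rfl, coeff_G_top r a w hw]
      rfl
    rw [h2, sub_mul]
    congr 1
    rcases Nat.eq_zero_or_pos v with h0 | hpos
    · have : derivative P = 0 := by
        rw [eq_C_of_natDegree_eq_zero h0, derivative_C]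
      rw [this, mul_zero, coeff_zero, h0, Nat.cast_zero, zero_mul]
    · rw [show v + m - 1 = m + (v - 1) by omega, coeff_mul_add_eq_of_natDegree_le
        (natDegree_R r).le (natDegree_derivative_le P), coeff_derivative,
        show v - 1 + 1 = v by omega, show (R r).coeff m = 1 by
          have h := (monic_prod_of_monic Finset.univ (fun j => X - C (r j))
            fun _ _ => monic_X_sub_C _).coeff_natDegree
          rw [show (∏ j, (X - C (r j))) = R r from rfl, natDegree_R] at h
          exact h, one_mul,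
        show P.coeff v = P.leadingCoeff from rfl]
      rw [← Nat.cast_add_one, show v - 1 + 1 = v by omega, mul_comm]
  have hne : (φ r a P).coeff (v + m - 1) ≠ 0 := by
    rw [hcoeff]
    exact mul_ne_zero (sub_ne_zero.2 (Nat.cast_injective.ne hv)) (leadingCoeff_ne_zero.2 hP)
  have hle : (φ r a P).natDegree ≤ v + m - 1 := by
    rw [φ_apply]
    refine (natDegree_sub_le _ _).trans (max_le ?_ ?_)
    · rcases Nat.eq_zero_or_pos v with h0 | hpos
      · rw [eq_C_of_natDegree_eq_zero h0, derivative_C, mul_zero]; simp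
      · refine natDegree_mul_le.trans ?_
        have := natDegree_derivative_le P
        have := natDegree_R r
        omega
    · refine natDegree_mul_le.trans ?_
      have := natDegree_G_lt r a hm.ne'
      omega
  refine ⟨fun h => hne (by rw [h, coeff_zero]), ?_⟩
  have := le_natDegree_of_ne_zero hne
  omega

lemma natDegree_φ_le (P : k[X]) (hne : φ r a P ≠ 0) :
    ∃ c, P - C c * E r a ≠ 0 ∧
      (φ r a P).natDegree + 1 = (P - C c * E r a).natDegree + m ∧
      ∀ c', (P - C c * E r a).natDegree ≤ (P - C c' * E r a).natDegree := by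
  have heq : ∀ c, φ r a (P - C c * E r a) = φ r a P := fun c => by
    rw [map_sub, ← smul_eq_C_mul, map_smul, φ_E, smul_zero, sub_zero]
  have h0 : ∀ c, P - C c * E r a ≠ 0 := fun c h => hne (by rw [← heq c, h, map_zero])
  -- minimise the degree
  obtain ⟨c, -, hmin⟩ : ∃ c : k, True ∧ ∀ c', (P - C c * E r a).natDegree ≤ (P - C c' * E r a).natDegree := by
    obtain ⟨⟨c, hc⟩⟩ : Nonempty {c : k // (P - C c * E r a).natDegree =
        sInf (Set.range fun c : k => (P - C c * E r a).natDegree)} :=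
      let ⟨c, hc⟩ := Nat.sInf_mem (Set.range_nonempty fun c : k => (P - C c * E r a).natDegree)
      ⟨⟨c, hc⟩⟩
    exact ⟨c, trivial, fun c' => hc ▸ Nat.sInf_le ⟨c', rfl⟩⟩
  refine ⟨c, h0 c, ?_, hmin⟩
  set P' := P - C c * E r a with hP'
  have hv : P'.natDegree ≠ ∑ j, a j := by
    intro hv
    have h := hmin (c + P'.leadingCoeff)
    rw [show P - C (c + P'.leadingCoeff) * E r a = P' - C P'.leadingCoeff * E r a by
      rw [map_add, add_mul, sub_add_eq_sub_sub]] at h
    have hlt : (P' - C P'.leadingCoeff * E r a).degree < P'.degree := by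
      refine degree_sub_lt ?_ (h0 c) ?_
      · rw [degree_eq_natDegree (h0 c), degree_C_mul (leadingCoeff_ne_zero.2 (h0 c)),
          degree_eq_natDegree (E_monic r a).ne_zero, natDegree_E, hv]
      · rw [leadingCoeff_mul, leadingCoeff_C, (E_monic r a).leadingCoeff, mul_one]
    have hne' : P' - C P'.leadingCoeff * E r a ≠ 0 := by
      intro h'
      apply hne
      rw [← heq c]
      show φ r a P' = 0
      rw [sub_eq_zero.1 h', ← smul_eq_C_mul, map_smul, φ_E, smul_zero]
    rw [degree_eq_natDegree hne', degree_eq_natDegree (h0 c)] at hlt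
    exact absurd h (not_le.2 (by exact_mod_cast hlt))
  rw [← heq c]
  exact (φ_top r a (h0 c) hv).2

lemma degree_φ_lt (N j : ℕ) (hj : j ≤ N + 1) (P : k[X]) :
    φ r a P ∈ Polynomial.degreeLT k (N + m - j) ↔
      ∃ c, P - C c * E r a ∈ Polynomial.degreeLT k (N + 1 - j) := by
  by_cases hne : φ r a P = 0
  · obtain ⟨c, hc⟩ := φ_eq_zero r a hne
    rw [hne]
    exact iff_of_true (zero_mem _) ⟨c, by rw [hc, sub_self]; exact zero_mem _⟩
  obtain ⟨c, h0, hdeg, hmin⟩ := natDegree_φ_le r a P hne
  rw [mem_degreeLT, ← natDegree_lt_iff_degree_lt hne]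
  constructor
  · intro h
    exact ⟨c, by rw [mem_degreeLT, ← natDegree_lt_iff_degree_lt h0]; omega⟩
  · rintro ⟨c', hc'⟩
    have hne' : P - C c' * E r a ≠ 0 := fun h' => hne (by
      rw [sub_eq_zero.1 h', ← smul_eq_C_mul, map_smul, φ_E, smul_zero])
    rw [mem_degreeLT, ← natDegree_lt_iff_degree_lt hne'] at hc'
    have := hmin c'
    omega

/-- the linear system -/
noncomputable def V (b : ℕ) : Submodule k k[X] :=
  (degreeLT k b).map (LinearMap.mulLeft k (∏ j, (X - C (r j)) ^ (a j + 1))) ⊔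
    ⨆ i, (degreeLT k (a i)).map
      (LinearMap.mulLeft k (∏ j ∈ Finset.univ.erase i, (X - C (r j)) ^ (a j + 1)))

lemma prod_succ (s : Finset (Fin m)) :
    ∏ j ∈ s, (X - C (r j)) ^ (a j + 1) =
      (∏ j ∈ s, (X - C (r j)) ^ (a j)) * ∏ j ∈ s, (X - C (r j)) := by
  rw [← Finset.prod_mul_distrib]
  exact Finset.prod_congr rfl fun j _ => pow_succ _ _

lemma φ_EQ (Q : k[X]) :
    φ r a (E r a * Q) = (∏ j, (X - C (r j)) ^ (a j + 1)) * derivative Q := by
  rw [φ_mul, φ_E, zero_mul, zero_add, prod_succ, ← E, ← R]; ring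

lemma φ_Ei (i : Fin m) (t : ℕ) :
    φ r a ((∏ j ∈ Finset.univ.erase i, (X - C (r j)) ^ (a j)) * (X - C (r i)) ^ t) =
      C ((t : k) - a i) * ((∏ j ∈ Finset.univ.erase i, (X - C (r j)) ^ (a j + 1)) *
        (X - C (r i)) ^ t) := by
  set Ei := ∏ j ∈ Finset.univ.erase i, (X - C (r j)) ^ (a j) with hEi
  have hE : E r a = Ei * (X - C (r i)) ^ (a i) := by
    rw [mul_comm]; exact (Finset.mul_prod_erase _ _ (Finset.mem_univ i)).symm
  apply mul_right_cancel₀ (pow_ne_zero (a i) (X_sub_C_ne_zero (r i)))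
  have h1 := φ_mul r a (Ei * (X - C (r i)) ^ t) ((X - C (r i)) ^ (a i))
  rw [show Ei * (X - C (r i)) ^ t * (X - C (r i)) ^ (a i) = E r a * (X - C (r i)) ^ t by
    rw [hE]; ring, φ_EQ] at h1
  rw [prod_succ r a Finset.univ] at h1
  rw [prod_succ, ← hEi]
  rw [← E, hE, ← R, R_eq r i, derivative_pow, derivative_pow, derivative_X_sub_C] at h1
  set Y := X - C (r i)
  set Ri := ∏ j ∈ Finset.univ.erase i, (X - C (r j))
  have hY : ∀ n : ℕ, Y * (C (n : k) * Y ^ (n - 1)) = C (n : k) * Y ^ n := by
    intro n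
    rcases Nat.eq_zero_or_pos n with h | h
    · simp [h]
    · obtain ⟨c, rfl⟩ := Nat.exists_eq_succ_of_ne_zero h.ne'
      rw [Nat.succ_sub_one, pow_succ]; ring
  rw [map_sub]
  linear_combination -h1 + (Ei * Y ^ (a i) * Ri) * hY t - (Ei * Y ^ t * Ri) * hY (a i)

lemma V_eq (hr : Function.Injective r) (b N : ℕ) (hN : N = (∑ j, a j) + b) :
    V r a b = (degreeLT k (N + 1)).map (φ r a) := by
  have hEidvd : ∀ i, ((∏ j ∈ Finset.univ.erase i, (X - C (r j)) ^ (a j)) : k[X]).natDegree
      + a i = ∑ j, a j := by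
    intro i
    rw [natDegree_prod_of_monic _ _ fun j _ => (monic_X_sub_C _).pow _,
      ← Finset.sum_erase_add _ _ (Finset.mem_univ i)]
    simp
  classical
  apply le_antisymm
  · refine sup_le ?_ (iSup_le fun i => ?_)
    · rw [degreeLT_eq_span_X_pow, Submodule.map_span, Submodule.span_le]
      intro _ hx
      simp only [Finset.coe_image, Finset.coe_range, Set.mem_image, Set.mem_Iio] at hx
      obtain ⟨_, ⟨t, ht, rfl⟩, rfl⟩ := hx
      refine ⟨E r a * (C ((t : k) + 1)⁻¹ * X ^ (t + 1)), ?_, ?_⟩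
      · rw [SetLike.mem_coe, mem_degreeLT, degree_mul, degree_eq_natDegree (E_monic r a).ne_zero,
          natDegree_E, degree_C_mul_X_pow _ (inv_ne_zero (Nat.cast_add_one_ne_zero t))]
        exact_mod_cast (by omega : (∑ j, a j) + (t + 1) < N + 1)
      · rw [φ_EQ, LinearMap.mulLeft_apply, derivative_C_mul_X_pow, Nat.cast_add, Nat.cast_one,
          inv_mul_cancel₀ (Nat.cast_add_one_ne_zero t), map_one, one_mul, Nat.add_sub_cancel]
    · intro x hx
      obtain ⟨g, hg, rfl⟩ := Submodule.mem_map.1 hx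
      rw [mem_degreeLT] at hg
      rw [LinearMap.mulLeft_apply, ← sum_taylor_eq g (r i), Polynomial.sum, Finset.mul_sum]
      refine Submodule.sum_mem _ fun t ht => ?_
      have htlt : t < a i := by
        have h1 := le_natDegree_of_mem_supp t ht
        rw [natDegree_taylor] at h1
        have hg0 : g ≠ 0 := by rintro rfl; simp at ht
        rw [← natDegree_lt_iff_degree_lt hg0] at hg
        omega
      have hne : ((t : k) - a i) ≠ 0 := sub_ne_zero.2 (Nat.cast_injective.ne htlt.ne)
      refine ⟨C ((taylor (r i) g).coeff t / ((t : k) - a i)) *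
        ((∏ j ∈ Finset.univ.erase i, (X - C (r j)) ^ (a j)) * (X - C (r i)) ^ t), ?_, ?_⟩
      · rw [SetLike.mem_coe, mem_degreeLT]
        refine lt_of_le_of_lt degree_le_natDegree ?_
        refine WithBot.coe_lt_coe.2 (lt_of_le_of_lt (natDegree_C_mul_le _ _) ?_)
        refine lt_of_le_of_lt natDegree_mul_le ?_
        have := hEidvd i
        rw [natDegree_pow, natDegree_X_sub_C]
        simp only [Nat.cast_id]
        omega
      · rw [← smul_eq_C_mul, map_smul, φ_Ei, smul_eq_C_mul, ← mul_assoc, ← map_mul,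
          div_mul_cancel₀ _ hne]
        ring
  · rintro x ⟨P, hP, rfl⟩
    rw [SetLike.mem_coe, mem_degreeLT] at hP
    -- Euclidean division and partial fractions
    set Ei := fun i => ((∏ j ∈ Finset.univ.erase i, (X - C (r j)) ^ (a j)) : k[X]) with hEi
    have hmon := E_monic r a
    set Q := P /ₘ E r a
    set rem := P %ₘ E r a with hrem
    have hcop : Pairwise (Function.onFun IsCoprime fun j => (X - C (r j)) ^ (a j)) := fun i j hij =>
      ((isCoprime_X_sub_C_of_isUnit_sub (sub_ne_zero.2 (hr.ne hij)).isUnit)).pow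
    obtain ⟨us, hus⟩ : ∃ us : Fin m → k[X], rem = ∑ i, us i * Ei i := by
      rcases Nat.eq_zero_or_pos m with h | h
      · subst h
        refine ⟨0, ?_⟩
        simp [rem, E]
      · haveI : Nonempty (Fin m) := ⟨⟨0, h⟩⟩
        obtain ⟨μ, hμ⟩ := exists_sum_eq_one_iff_pairwise_coprime'.2 hcop
        refine ⟨fun i => rem * μ i, ?_⟩
        have e : ∀ i, ∏ j ∈ ({i}ᶜ : Finset (Fin m)), (X - C (r j)) ^ (a j) = Ei i := fun i => by
          simp only [hEi, Finset.compl_singleton]
        simp only [e] at hμ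
        conv_lhs => rw [← mul_one rem, ← hμ, Finset.mul_sum]
        simp only [mul_assoc]
    -- reduce each numerator
    set gs := fun i => us i %ₘ (X - C (r i)) ^ (a i)
    have hEmul : ∀ i, E r a = (X - C (r i)) ^ (a i) * Ei i := fun i =>
      (Finset.mul_prod_erase _ _ (Finset.mem_univ i)).symm
    have hsum : rem = ∑ i, gs i * Ei i + E r a * ∑ i, us i /ₘ (X - C (r i)) ^ (a i) := by
      rw [hus, Finset.mul_sum, ← Finset.sum_add_distrib]
      refine Finset.sum_congr rfl fun i _ => ?_
      conv_lhs => rw [← modByMonic_add_div (us i) ((X - C (r i)) ^ (a i))]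
      rw [hEmul i]; ring
    set A := ∑ i, us i /ₘ (X - C (r i)) ^ (a i)
    have hP' : P = ∑ i, gs i * Ei i + E r a * (Q + A) := by
      conv_lhs => rw [← modByMonic_add_div P (E r a), ← hrem, hsum]
      ring
    rw [hP', map_add, map_sum, φ_EQ]
    have hgdeg : ∀ i, (gs i).degree < a i := fun i => by
      refine lt_of_lt_of_eq (degree_modByMonic_lt _ ((monic_X_sub_C _).pow _)) ?_
      rw [degree_eq_natDegree ((monic_X_sub_C _).pow _).ne_zero, natDegree_pow, natDegree_X_sub_C,
        mul_one]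
    refine add_mem (Submodule.sum_mem _ fun i _ => Submodule.mem_sup_right
      (Submodule.mem_iSup_of_mem i ?_)) (Submodule.mem_sup_left ⟨_, ?_, rfl⟩)
    · rw [mul_comm (gs i), ← sum_taylor_eq (gs i) (r i), Polynomial.sum, Finset.mul_sum, map_sum]
      refine Submodule.sum_mem _ fun t ht => ?_
      rw [mul_left_comm, ← smul_eq_C_mul, map_smul]
      refine Submodule.smul_mem _ _ ⟨C ((t : k) - a i) * (X - C (r i)) ^ t, ?_, ?_⟩
      · rw [SetLike.mem_coe, mem_degreeLT]
        have htlt : t < a i := by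
          have h1 := le_natDegree_of_mem_supp t ht
          rw [natDegree_taylor] at h1
          have hg0 : gs i ≠ 0 := by intro h; simp [h] at ht
          have := hgdeg i
          rw [← natDegree_lt_iff_degree_lt hg0] at this
          omega
        refine lt_of_le_of_lt degree_le_natDegree ?_
        refine WithBot.coe_lt_coe.2 (lt_of_le_of_lt (natDegree_C_mul_le _ _) ?_)
        rw [natDegree_pow, natDegree_X_sub_C]; simp only [Nat.cast_id]; omega
      · rw [φ_Ei, LinearMap.mulLeft_apply]; ring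
    · rw [SetLike.mem_coe, mem_degreeLT]
      by_cases h0 : derivative (Q + A) = 0
      · rw [h0, degree_zero]; exact WithBot.bot_lt_coe _
      have hQA : Q + A ≠ 0 := fun h => h0 (by rw [h, derivative_zero])
      have hd : (∑ j, a j) + (Q + A).natDegree ≤ N := by
        have h2 : (E r a * (Q + A)).degree < (N + 1 : ℕ) := by
          rw [show E r a * (Q + A) = P - ∑ i, gs i * Ei i by linear_combination -hP']
          refine lt_of_le_of_lt (degree_sub_le _ _) (max_lt hP ?_)
          refine lt_of_le_of_lt degree_le_natDegree (WithBot.coe_lt_coe.2 ?_)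
          refine Nat.lt_succ_of_le (natDegree_sum_le_of_forall_le _ _ fun i _ => ?_)
          refine natDegree_mul_le.trans ?_
          have := hEidvd i
          by_cases hg0 : gs i = 0
          · simp [hg0, hEi]; omega
          have h3 := hgdeg i
          rw [← natDegree_lt_iff_degree_lt hg0] at h3
          simp only [hEi]
          omega
        rw [degree_eq_natDegree (mul_ne_zero hmon.ne_zero hQA), natDegree_mul hmon.ne_zero hQA,
          natDegree_E] at h2
        have := WithBot.coe_lt_coe.1 h2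
        simp only [Nat.cast_id] at this
        omega
      rw [← natDegree_lt_iff_degree_lt h0]
      have h1 := natDegree_derivative_le (Q + A)
      have h2 : (Q + A).natDegree ≠ 0 := fun h => h0 (by rw [eq_C_of_natDegree_eq_zero h, derivative_C])
      omega

end Wronsk
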