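import Groth.Agent.Lib.Wronsk.System

/-!
The hyperplanes through a drop at infinity, and `V(-p)`.
-/

set_option linter.style.haveILetI false

namespace Wronsk

open Polynomial

variable {k : Type*} [Field k] [CharZero k] {m : ℕ} (r : Fin m → k) (a : Fin m → ℕ) {b N : ℕ}

lemma d_eq {d : ℕ} (hN : N = (∑ j, a j) + b) (hd : d + 1 = (∑ j, (a j + 1)) + b) : d + 1 = N + m := by
  rw [Finset.sum_add_distrib, Finset.sum_const, Finset.card_univ, Fintype.card_fin, smul_eq_mul,
    mul_one] at hd
  omega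

lemma a_le (hN : N = (∑ j, a j) + b) (i : Fin m) : a i ≤ N := by
  have := Finset.single_le_sum (f := a) (fun j _ => Nat.zero_le _) (Finset.mem_univ i)
  omega

theorem orders_V (hr : Function.Injective r) (d : ℕ)
    (hN : N = (∑ j, a j) + b) (hd : d + 1 = (∑ j, (a j + 1)) + b) :
    Module.finrank k (V r a b) = N ∧
    (∀ (i : Fin m) (n : ℕ), Module.finrank k (V r a b ⊓ I (r i) n : Submodule k k[X]) =
        if n ≤ a i then N - n else N + 1 - n) ∧
    (∀ n : ℕ, Module.finrank k (V r a b ⊓ degreeLT k (d + 1 - n) : Submodule k k[X]) =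
        if n ≤ b then N - n else N + 1 - n) :=
  ⟨finrank_V r a hr hN, finrank_V_marked r a hr hN, fun n => by
    rw [d_eq a hN hd]; exact finrank_V_infty r a hr hN n⟩

theorem hyperplane_drop (hr : Function.Injective r) (hb : 1 ≤ b)
    (hN : N = (∑ j, a j) + b) {V₁ : Submodule k k[X]} (hle : V₁ ≤ V r a b)
    (hfin : Module.finrank k V₁ + 1 = N) (hU : V r a (b - 2) ≤ V₁) :
    (∀ q : k, (∀ j, q ≠ r j) →
      V₁ ⊓ I q N = ⊥ ∧ Module.finrank k (V₁ ⊓ I q (N - 2) : Submodule k k[X]) ≤ 1) ∧
    (∀ q q' : k, (∀ j, q ≠ r j) → (∀ j, q' ≠ r j) →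
      V₁ ⊓ I q (N - 1) ≠ ⊥ → V₁ ⊓ I q' (N - 1) ≠ ⊥ → q = q') := by
  classical
  refine ⟨fun q hq => ⟨inf_I_eq_bot_of_le hle (unmarked_bot r a hr hN hq), ?_⟩, ?_⟩
  · by_cases h1 : φ r a ((X - C q) ^ (N - 1) * 1) ∈ V₁
    · refine two_line_le r a hr hN hle hfin hq X natDegree_X_le fun h2N hX => ?_
      rw [mul_one] at h1
      have hlow : ∀ P : k[X], P.natDegree < N - 1 → φ r a P ∈ V₁ := fun P hP =>
        low_mem r a hr hN hb hU (mem_degreeLT_iff.2 (Or.inr hP))
      have e1 : ((X - C q) ^ (N - 1) : k[X]) - X ^ (N - 1) = 0 ∨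
          ((X - C q) ^ (N - 1) - X ^ (N - 1) : k[X]).natDegree < N - 1 := by
        by_cases h0 : ((X - C q) ^ (N - 1) : k[X]) - X ^ (N - 1) = 0
        · exact Or.inl h0
        refine Or.inr ((natDegree_lt_iff_degree_lt h0).2 ?_)
        have := degree_sub_lt (p := ((X - C q) ^ (N - 1) : k[X])) (q := X ^ (N - 1))
          (by simp [degree_pow]) (pow_ne_zero _ (X_sub_C_ne_zero q))
          (by simp [leadingCoeff_pow])
        rwa [degree_pow, degree_X_sub_C, nsmul_one] at this
      have m1 : φ r a (X ^ (N - 1)) ∈ V₁ := by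
        have h3 : φ r a ((X - C q) ^ (N - 1) - X ^ (N - 1)) ∈ V₁ := by
          rcases e1 with e | e
          · rw [e, map_zero]; exact zero_mem _
          · exact hlow _ e
        have := V₁.sub_mem h1 h3
        rwa [map_sub, sub_sub_cancel] at this
      refine not_both r a hr hN hb hle hfin hU m1 ?_
      have h3 : φ r a (((X - C q) ^ (N - 1) - X ^ (N - 1)) * X) ∈ V₁ := by
        rcases e1 with e | e
        · rw [e, zero_mul, map_zero]; exact zero_mem _
        · -- degree at most `N - 1`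
          have hd : (((X - C q) ^ (N - 1) - X ^ (N - 1) : k[X]) * X).natDegree < N := by
            refine lt_of_le_of_lt natDegree_mul_le ?_
            rw [natDegree_X]; omega
          set Q := (((X - C q) ^ (N - 1) - X ^ (N - 1) : k[X]) * X)
          have hsplit : Q = (Q - C (Q.coeff (N - 1)) * X ^ (N - 1)) + C (Q.coeff (N - 1)) * X ^ (N - 1) :=
            (sub_add_cancel _ _).symm
          rw [hsplit, map_add]
          refine add_mem ?_ (by rw [← smul_eq_C_mul, map_smul]; exact V₁.smul_mem _ m1)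
          by_cases h0 : Q - C (Q.coeff (N - 1)) * X ^ (N - 1) = 0
          · rw [h0, map_zero]; exact zero_mem _
          refine hlow _ ((natDegree_lt_iff_degree_lt h0).2 ?_)
          rw [degree_lt_iff_coeff_zero]
          intro i hi
          rw [coeff_sub, coeff_C_mul_X_pow]
          rcases eq_or_lt_of_le hi with rfl | hlt
          · simp
          · rw [if_neg (by omega), coeff_eq_zero_of_natDegree_lt (by omega), sub_zero]
      have := V₁.sub_mem hX h3
      rw [← map_sub, ← sub_mul, sub_sub_cancel, ← pow_succ, show N - 1 + 1 = N by omega] at this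
      exact this
    · exact two_line_le r a hr hN hle hfin hq 1 (by simp) fun _ => h1
  · intro q q' hq hq' hne hne'
    by_contra hqq
    have h1 := line_mem r a hr hN hb hle hq hne
    have h2 := line_mem r a hr hN hb hle hq' hne'
    obtain ⟨c, hc⟩ : ∃ c, N = c + 1 := ⟨N - 1, by omega⟩
    have hlow : ∀ P : k[X], P.natDegree ≤ N - 2 → 2 ≤ N → φ r a P ∈ V₁ := fun P hP h2 =>
      low_mem r a hr hN hb hU (mem_degreeLT_iff.2 (Or.inr (by omega)))
    set D := (X - C q) ^ N - (X - C q') ^ N with hD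
    have hDc : ∀ i, N ≤ i → D.coeff i = 0 := fun i hi => by
      rw [hD, coeff_sub]
      rcases eq_or_lt_of_le hi with rfl | hlt
      · have e1 := ((monic_X_sub_C q).pow N).coeff_natDegree
        have e2 := ((monic_X_sub_C q').pow N).coeff_natDegree
        rw [natDegree_pow, natDegree_X_sub_C, mul_one] at e1 e2
        rw [e1, e2, sub_self]
      · rw [coeff_eq_zero_of_natDegree_lt (by rw [natDegree_pow, natDegree_X_sub_C]; omega),
          coeff_eq_zero_of_natDegree_lt (by rw [natDegree_pow, natDegree_X_sub_C]; omega), sub_self]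
    have hDtop : D.coeff (N - 1) = (N : k) * (q' - q) := by
      rw [hD, coeff_sub, sub_eq_add_neg X, sub_eq_add_neg X, ← C_neg, ← C_neg,
        coeff_X_add_C_pow, coeff_X_add_C_pow, hc, Nat.add_sub_cancel, Nat.add_sub_cancel_left,
        Nat.choose_succ_self_right]
      push_cast; ring
    have hne0 : D.coeff (N - 1) ≠ 0 := by
      rw [hDtop]
      exact mul_ne_zero (Nat.cast_ne_zero.2 (by omega)) (sub_ne_zero.2 (Ne.symm hqq))
    have hmonDiff : ∀ P : k[X], (∀ i, N - 1 ≤ i → P.coeff i = 0) → φ r a P ∈ V₁ := fun P hP => by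
      refine low_mem r a hr hN hb hU ?_
      rw [mem_degreeLT, degree_lt_iff_coeff_zero]
      exact hP
    have hDm : φ r a D ∈ V₁ := by rw [hD, map_sub]; exact V₁.sub_mem h1 h2
    have m1 : φ r a (X ^ (N - 1)) ∈ V₁ := by
      have h3 : φ r a (D - C (D.coeff (N - 1)) * X ^ (N - 1)) ∈ V₁ := hmonDiff _ fun i hi => by
        rw [coeff_sub, coeff_C_mul_X_pow]
        rcases eq_or_lt_of_le hi with rfl | hlt
        · simp
        · rw [if_neg (by omega), hDc i (by omega), sub_zero]
      have h4 := V₁.smul_mem (D.coeff (N - 1))⁻¹ (V₁.sub_mem hDm h3)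
      rwa [← map_sub, sub_sub_cancel, ← map_smul, smul_eq_C_mul, ← mul_assoc, ← map_mul,
        inv_mul_cancel₀ hne0, map_one, one_mul] at h4
    refine not_both r a hr hN hb hle hfin hU m1 ?_
    have hq1 : ((X - C q) ^ N).coeff N = 1 := by
      have e1 := ((monic_X_sub_C q).pow N).coeff_natDegree
      rwa [natDegree_pow, natDegree_X_sub_C, mul_one] at e1
    have h3 : φ r a ((X - C q) ^ N - X ^ N - C (((X - C q) ^ N).coeff (N - 1)) * X ^ (N - 1)) ∈ V₁ :=
      hmonDiff _ fun i hi => by
        rw [coeff_sub, coeff_sub, coeff_C_mul_X_pow, coeff_X_pow]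
        rcases eq_or_lt_of_le hi with rfl | hlt
        · rw [if_pos rfl, if_neg (by omega)]; ring
        · rw [if_neg (show ¬ i = N - 1 by omega)]
          rcases eq_or_lt_of_le (show N ≤ i by omega) with rfl | hlt'
          · rw [if_pos rfl, hq1]; ring
          · rw [if_neg (show ¬ i = N by omega),
              coeff_eq_zero_of_natDegree_lt (by rw [natDegree_pow, natDegree_X_sub_C]; omega)]
            ring
    have h4 : φ r a (C (((X - C q) ^ N).coeff (N - 1)) * X ^ (N - 1)) ∈ V₁ := by
      rw [← smul_eq_C_mul, map_smul]; exact V₁.smul_mem _ m1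
    have := V₁.sub_mem h1 (V₁.add_mem h3 h4)
    rwa [← map_add, ← map_sub, sub_add_cancel, sub_sub_cancel] at this

lemma inf_Ip_facts (hr : Function.Injective r) (hb : 1 ≤ b) (hN : N = (∑ j, a j) + b) {p : k}
    (hp : ∀ j, p ≠ r j) : Module.finrank k (V r a b ⊓ I p 1 : Submodule k k[X]) + 1 = N := by
  rw [finrank_V_unmarked r a hr hN hp]; omega

lemma eval_φ_ne (hr : Function.Injective r) {p q : k} (hp : ∀ j, p ≠ r j) (hpq : p ≠ q) (n : ℕ) :
    φ r a ((X - C q) ^ n * (X - C p)) ∉ I p 1 := by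
  rw [mem_I, pow_one, dvd_iff_isRoot, IsRoot, φ_apply, derivative_mul, derivative_X_sub_C]
  simp only [eval_sub, eval_mul, eval_add, eval_pow, eval_X, eval_C, eval_one, sub_self, mul_zero,
    zero_add, mul_one, sub_zero]
  exact mul_ne_zero (eval_R_ne_zero r hp) (pow_ne_zero _ (sub_ne_zero.2 hpq))

theorem drop_point (hr : Function.Injective r) (hb : 1 ≤ b) (hN : N = (∑ j, a j) + b) {p : k}
    (hp : ∀ j, p ≠ r j) :
    Module.finrank k (V r a b ⊓ I p 1 : Submodule k k[X]) + 1 = N ∧
    V r a b ⊓ I p 1 ⊓ I p N = ⊥ ∧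
    (∀ q : k, (∀ j, q ≠ r j) → q ≠ p →
      V r a b ⊓ I p 1 ⊓ I q N = ⊥ ∧
      Module.finrank k (V r a b ⊓ I p 1 ⊓ I q (N - 2) : Submodule k k[X]) ≤ 1) ∧
    (∀ q q' : k, (∀ j, q ≠ r j) → q ≠ p → (∀ j, q' ≠ r j) → q' ≠ p →
      V r a b ⊓ I p 1 ⊓ I q (N - 1) ≠ ⊥ → V r a b ⊓ I p 1 ⊓ I q' (N - 1) ≠ ⊥ → q = q') := by
  classical
  have hfin := inf_Ip_facts r a hr hb hN hp
  refine ⟨hfin, inf_I_eq_bot_of_le inf_le_left (unmarked_bot r a hr hN hp),
    fun q hq hqp => ⟨inf_I_eq_bot_of_le inf_le_left (unmarked_bot r a hr hN hq), ?_⟩, ?_⟩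
  · exact two_line_le r a hr hN inf_le_left hfin hq (X - C p) (natDegree_X_sub_C p).le
      fun _ h => eval_φ_ne r a hr hp hqp.symm _ h.2
  · intro q q' hq hqp hq' hqp' hne hne'
    obtain ⟨c, hc⟩ : ∃ c, N = c + 1 := ⟨N - 1, by omega⟩
    have key : ∀ t : k, t ≠ p → φ r a ((X - C t) ^ N) ∈ V r a b ⊓ I p 1 →
        (G r a).eval p * (p - t) = (N : k) * (R r).eval p := by
      intro t ht h
      have h2 := h.2
      rw [SetLike.mem_coe, mem_I, pow_one, dvd_iff_isRoot, IsRoot, φ_apply, derivative_pow,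
        derivative_X_sub_C, hc, Nat.add_sub_cancel] at h2
      simp only [eval_sub, eval_mul, eval_pow, eval_X, eval_C, eval_one, mul_one] at h2
      have h3 : (p - t) ^ c * ((N : k) * (R r).eval p - (G r a).eval p * (p - t)) = 0 := by
        rw [hc]; rw [pow_succ] at h2; push_cast at h2 ⊢; linear_combination h2
      exact (sub_eq_zero.1 ((mul_eq_zero.1 h3).resolve_left (pow_ne_zero _ (sub_ne_zero.2 ht.symm)))).symm
    have e1 := key q hqp (line_mem r a hr hN hb inf_le_left hq hne)
    have e2 := key q' hqp' (line_mem r a hr hN hb inf_le_left hq' hne')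
    have hG : (G r a).eval p ≠ 0 := by
      intro h0
      rw [h0, zero_mul] at e1
      exact mul_ne_zero (Nat.cast_ne_zero.2 (by omega)) (eval_R_ne_zero r hp) e1.symm
    have := mul_left_cancel₀ hG (e1.trans e2.symm)
    linear_combination -this

lemma I_antitone {q : k} {i j : ℕ} (h : i ≤ j) : I q j ≤ I q i := fun P hP =>
  mem_I.2 ((pow_dvd_pow _ h).trans (mem_I.1 hP))

lemma count_marked (hr : Function.Injective r) (hN : N = (∑ j, a j) + b) {V₁ : Submodule k k[X]}
    (hle : V₁ ≤ V r a b) (hfin : Module.finrank k V₁ + 1 = N) (i : Fin m) (d : ℕ) (hd : N ≤ d)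
    (hout : 2 ≤ N → ∃ x ∈ V r a b, x ∈ I (r i) (N - 1) ∧ x ∉ V₁) :
    ∃ ε : ℕ, ε ≤ 1 ∧
      (∑ n ∈ Finset.range d, Module.finrank k (V₁ ⊓ I (r i) (n + 1) : Submodule k k[X])) + 1 =
        (N - 1).choose 2 + (N - a i) + ε := by
  classical
  have hs := sum_hyperplane r a hr hN hle hfin (fun n => I (r i) (n + 1)) d
  rw [Finset.sum_congr rfl (fun n _ => finrank_V_marked r a hr hN i (n + 1)),
    sum_orders N (a i) d (a_le a hN i) hd] at hs
  set F := (Finset.range d).filter fun n => ¬ V r a b ⊓ I (r i) (n + 1) ≤ V₁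
  have hsub : F ⊆ Finset.range N := by
    intro n hn
    obtain ⟨-, hn⟩ := Finset.mem_filter.1 hn
    rw [Finset.mem_range]
    by_contra hcon
    apply hn
    haveI := V_finiteDimensional r a hr (b := b)
    haveI : FiniteDimensional k (V r a b ⊓ I (r i) (n + 1) : Submodule k k[X]) :=
      Submodule.finiteDimensional_inf_left _ _
    have h0 : Module.finrank k (V r a b ⊓ I (r i) (n + 1) : Submodule k k[X]) = 0 := by
      rw [finrank_V_marked r a hr hN i, if_neg (by have := a_le a hN i; omega)]; omega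
    rw [Submodule.finrank_eq_zero.1 h0]
    exact bot_le
  have hsup : Finset.range (N - 1) ⊆ F := by
    intro n hn
    rw [Finset.mem_range] at hn
    refine Finset.mem_filter.2 ⟨Finset.mem_range.2 (by omega), fun hcon => ?_⟩
    obtain ⟨x, hx1, hx2, hx3⟩ := hout (by omega)
    exact hx3 (hcon ⟨hx1, I_antitone (by omega) hx2⟩)
  have h1 := Finset.card_le_card hsub
  have h2 := Finset.card_le_card hsup
  rw [Finset.card_range] at h1 h2
  have h3 := choose_step (N := N) (by omega)
  exact ⟨N - F.card, by omega, by omega⟩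

lemma mem_deg (P : k[X]) (M : ℕ) (h : P.natDegree < M) : P ∈ degreeLT k M :=
  mem_degreeLT_iff.2 (Or.inr h)

lemma φ_mem_marked (hr : Function.Injective r) (hN : N = (∑ j, a j) + b) (i : Fin m) (n : ℕ)
    (u : k[X]) (hdeg : n + u.natDegree ≤ N) :
    φ r a ((X - C (r i)) ^ n * u) ∈ V r a b ∧ φ r a ((X - C (r i)) ^ n * u) ∈ I (r i) n := by
  have h : φ r a ((X - C (r i)) ^ n * u) ∈ V r a b ⊓ I (r i) n := by
    rw [inf_I_marked r a hr hN]
    refine ⟨_, ⟨mem_deg _ _ (lt_of_le_of_lt natDegree_mul_le ?_), mem_I.2 (dvd_mul_right _ _)⟩, rfl⟩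
    rw [natDegree_pow, natDegree_X_sub_C]; omega
  exact h

theorem weights_drop (hr : Function.Injective r) (hb : 1 ≤ b) (d : ℕ)
    (hN : N = (∑ j, a j) + b) (hd : d + 1 = (∑ j, (a j + 1)) + b) {V₁ : Submodule k k[X]}
    (hle : V₁ ≤ V r a b) (hfin : Module.finrank k V₁ + 1 = N) (hU : V r a (b - 2) ≤ V₁) :
    (∀ i : Fin m, ∃ ε : ℕ, ε ≤ 1 ∧
      (∑ n ∈ Finset.range d, Module.finrank k (V₁ ⊓ I (r i) (n + 1) : Submodule k k[X])) + 1 =
        (N - 1).choose 2 + (N - a i) + ε) ∧
    (∃ ε : ℕ, ε ≤ 1 ∧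
      (∑ n ∈ Finset.range d, Module.finrank k (V₁ ⊓ degreeLT k (d - n) : Submodule k k[X])) =
        (N - 1).choose 2 + (N - b) + (N - 2) + ε) := by
  classical
  have hdN := d_eq a hN hd
  refine ⟨fun i => count_marked r a hr hN hle hfin i d (by have := i.pos; omega) fun h2 => ?_, ?_⟩
  · by_contra hcon
    push Not at hcon
    have h1 := φ_mem_marked r a hr hN i (N - 1) 1 (by simp)
    have h2' := φ_mem_marked r a hr hN i (N - 1) X (by rw [natDegree_X]; omega)
    have m1 := hcon _ h1.1 h1.2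
    have m2 := hcon _ h2'.1 h2'.2
    rw [mul_one] at m1
    -- the two together with the low degree part span everything
    have hlow : ∀ P : k[X], P ∈ degreeLT k (N - 1) → φ r a P ∈ V₁ := fun P hP =>
      low_mem r a hr hN hb hU hP
    have hall : ∀ P ∈ degreeLT k (N + 1), φ r a P ∈ V₁ := by
      intro P hP
      have hdiv := modByMonic_add_div P ((X - C (r i)) ^ (N - 1))
      rw [← hdiv, map_add]
      refine V₁.add_mem (hlow _ ?_) ?_
      · rw [mem_degreeLT]
        refine lt_of_lt_of_eq (degree_modByMonic_lt _ ((monic_X_sub_C _).pow _)) ?_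
        rw [degree_pow, degree_X_sub_C, nsmul_one]
      · set u := P /ₘ (X - C (r i)) ^ (N - 1)
        have hu : u.natDegree ≤ 1 := by
          rw [natDegree_divByMonic _ ((monic_X_sub_C _).pow _), natDegree_pow, natDegree_X_sub_C]
          rcases mem_degreeLT_iff.1 hP with rfl | h
          · simp
          · omega
        rw [eq_X_add_C_of_natDegree_le_one hu, mul_add, map_add]
        refine V₁.add_mem ?_ ?_
        · rw [show (X - C (r i)) ^ (N - 1) * (C (u.coeff 1) * X) =
            u.coeff 1 • ((X - C (r i)) ^ (N - 1) * X) by rw [smul_eq_C_mul]; ring, map_smul]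
          exact V₁.smul_mem _ m2
        · rw [mul_comm, ← smul_eq_C_mul, map_smul]; exact V₁.smul_mem _ m1
    refine not_both r a hr hN hb hle hfin hU (hall _ (mem_deg _ _ ?_)) (hall _ (mem_deg _ _ ?_)) <;>
      rw [natDegree_X_pow] <;> omega
  · rcases eq_or_lt_of_le (show 1 ≤ N by omega) with hN1 | hN2
    · subst hN1
      refine ⟨0, zero_le_one, ?_⟩
      haveI := V_finiteDimensional r a hr (b := b)
      haveI : FiniteDimensional k V₁ := Submodule.finiteDimensional_of_le hle
      obtain rfl : b = 1 := by omega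
      refine Finset.sum_eq_zero fun n _ => Submodule.finrank_eq_zero.2 ?_
      rw [eq_bot_iff]
      exact inf_le_left.trans (Submodule.finrank_eq_zero.1 (by omega : Module.finrank k V₁ = 0)).le
    have hs := sum_hyperplane r a hr hN hle hfin (fun n => degreeLT k (d - n)) d
    have hsum : ∑ n ∈ Finset.range d, Module.finrank k (V r a b ⊓ degreeLT k (d - n) : Submodule k k[X]) =
        N.choose 2 + (N - b) := by
      rw [← sum_orders N b (d + 1) (by omega) (by omega), Finset.sum_range_succ _ d,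
        if_pos_or_zero, add_zero]
      · refine Finset.sum_congr rfl fun n _ => ?_
        rw [← finrank_V_infty r a hr hN (n + 1), show N + m - (n + 1) = d - n by omega]
    rw [hsum] at hs
    set F := (Finset.range d).filter fun n => ¬ V r a b ⊓ degreeLT k (d - n) ≤ V₁
    have hF : F ⊆ Finset.range 1 := by
      intro n hn
      obtain ⟨hn1, hn⟩ := Finset.mem_filter.1 hn
      rw [Finset.mem_range] at hn1 ⊢
      by_contra hcon
      apply hn
      refine le_trans (inf_le_inf_left _ (degreeLT_mono (show d - n ≤ N + m - 2 by omega))) ?_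
      rw [inf_infty r a hr hN 2 (by omega), show N + 1 - 2 = N - 1 by omega]
      rintro _ ⟨P, hP, rfl⟩
      exact low_mem r a hr hN hb hU hP
    have h1 := Finset.card_le_card hF
    rw [Finset.card_range] at h1
    have h3 := choose_step (N := N) (by omega)
    exact ⟨1 - F.card, by omega, by omega⟩
where
  if_pos_or_zero : (if d + 1 ≤ b then N - (d + 1) else N + 1 - (d + 1)) = 0 := by
    have hdN := d_eq a hN hd
    have hS : m = 0 → ∑ j, a j = 0 := fun h => by subst h; simp
    split_ifs <;> omega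

theorem weights_point (hr : Function.Injective r) (hb : 1 ≤ b) (d : ℕ)
    (hN : N = (∑ j, a j) + b) (hd : d + 1 = (∑ j, (a j + 1)) + b) {p : k} (hp : ∀ j, p ≠ r j) :
    (∀ i : Fin m, ∃ ε : ℕ, ε ≤ 1 ∧
      (∑ n ∈ Finset.range d,
          Module.finrank k (V r a b ⊓ I p 1 ⊓ I (r i) (n + 1) : Submodule k k[X])) + 1 =
        (N - 1).choose 2 + (N - a i) + ε) ∧
    (∃ ε : ℕ, ε ≤ 1 ∧
      (∑ n ∈ Finset.range d,
          Module.finrank k (V r a b ⊓ I p 1 ⊓ degreeLT k (d - n) : Submodule k k[X])) + 1 =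
        (N - 1).choose 2 + (N - b) + ε) := by
  classical
  have hdN := d_eq a hN hd
  have hfin := inf_Ip_facts r a hr hb hN hp
  refine ⟨fun i => count_marked r a hr hN inf_le_left hfin i d (by have := i.pos; omega) fun h2 => ?_, ?_⟩
  · obtain ⟨h1, h2'⟩ := φ_mem_marked r a hr hN i (N - 1) (X - C p) (by rw [natDegree_X_sub_C]; omega)
    exact ⟨_, h1, h2', fun h => eval_φ_ne r a hr hp (hp i) _ h.2⟩
  · have hs := sum_hyperplane r a hr hN inf_le_left hfin (fun n => degreeLT k (d - n)) d
    have hsum : ∑ n ∈ Finset.range d, Module.finrank k (V r a b ⊓ degreeLT k (d - n) : Submodule k k[X]) =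
        N.choose 2 + (N - b) := by
      have hz : (if d + 1 ≤ b then N - (d + 1) else N + 1 - (d + 1)) = 0 := by
        have hS : m = 0 → ∑ j, a j = 0 := fun h => by subst h; simp
        split_ifs <;> omega
      rw [← sum_orders N b (d + 1) (by omega) (by omega), Finset.sum_range_succ _ d, hz, add_zero]
      refine Finset.sum_congr rfl fun n _ => ?_
      rw [← finrank_V_infty r a hr hN (n + 1), show N + m - (n + 1) = d - n by omega]
    rw [hsum] at hs
    set F := (Finset.range d).filter fun n => ¬ V r a b ⊓ degreeLT k (d - n) ≤ V r a b ⊓ I p 1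
    have hsub : F ⊆ Finset.range N := by
      intro n hn
      obtain ⟨hn1, hn⟩ := Finset.mem_filter.1 hn
      rw [Finset.mem_range] at hn1 ⊢
      by_contra hcon
      apply hn
      refine le_trans (inf_le_inf_left _ (degreeLT_mono (show d - n ≤ N + m - (N + 1) by omega))) ?_
      rw [inf_infty r a hr hN (N + 1) le_rfl, Nat.sub_self]
      rintro _ ⟨P, hP, rfl⟩
      rw [SetLike.mem_coe, mem_degreeLT_iff] at hP
      rcases hP with rfl | hP
      · rw [map_zero]; exact zero_mem _
      · omega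
    have hsup : Finset.range (N - 1) ⊆ F := by
      intro n hn
      rw [Finset.mem_range] at hn
      refine Finset.mem_filter.2 ⟨Finset.mem_range.2 (by omega), fun hcon => ?_⟩
      have hmem : φ r a (X - C p) ∈ V r a b ⊓ degreeLT k (d - n) := by
        rw [show d - n = N + m - (n + 1) by omega, inf_infty r a hr hN (n + 1) (by omega)]
        exact ⟨_, mem_deg _ _ (by rw [natDegree_X_sub_C]; omega), rfl⟩
      obtain ⟨q, hq⟩ := exists_ne p
      have := eval_φ_ne r a hr hp hq.symm 0
      rw [pow_zero, one_mul] at this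
      exact this (hcon hmem).2
    have h1 := Finset.card_le_card hsub
    have h2 := Finset.card_le_card hsup
    rw [Finset.card_range] at h1 h2
    have h3 := choose_step (N := N) (by omega)
    exact ⟨N - F.card, by omega, by omega⟩

end Wronsk
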