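import Groth.Agent.Lib.Wronsk.PolarParts

/-!
Vanishing orders and weights of the system `D · (polar parts)` and of its hyperplanes.
-/

set_option linter.style.haveILetI false

namespace Wronsk

open Polynomial

variable {k : Type*} [Field k]

/-- multiples of `(X - q)^n` -/
noncomputable abbrev I (q : k) (n : ℕ) : Submodule k k[X] :=
  (Ideal.span {(X - C q) ^ n}).restrictScalars k

lemma mem_I {q : k} {n : ℕ} {P : k[X]} : P ∈ I q n ↔ (X - C q) ^ n ∣ P := by
  rw [Submodule.restrictScalars_mem, Ideal.mem_span_singleton]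

lemma mem_degreeLT_iff {N : ℕ} {P : k[X]} :
    P ∈ degreeLT k N ↔ P = 0 ∨ P.natDegree < N := by
  by_cases h : P = 0
  · simp [h]
  · rw [mem_degreeLT, ← natDegree_lt_iff_degree_lt h]; simp [h]

lemma degreeLT_inf_I (q : k) (n M : ℕ) :
    degreeLT k M ⊓ I q n = (degreeLT k (M - n)).map (LinearMap.mulLeft k ((X - C q) ^ n)) := by
  have hne : ((X - C q) ^ n : k[X]) ≠ 0 := pow_ne_zero _ (X_sub_C_ne_zero q)
  have hdeg : ((X - C q) ^ n : k[X]).natDegree = n := by rw [natDegree_pow, natDegree_X_sub_C, mul_one]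
  ext P
  simp only [Submodule.mem_inf, Submodule.mem_map, LinearMap.mulLeft_apply, mem_I, mem_degreeLT_iff]
  constructor
  · rintro ⟨h, u, rfl⟩
    refine ⟨u, ?_, rfl⟩
    by_cases hu : u = 0
    · exact Or.inl hu
    rw [natDegree_mul hne hu, hdeg] at h
    rcases h with h | h
    · exact absurd h (mul_ne_zero hne hu)
    · exact Or.inr (by omega)
  · rintro ⟨u, hu, rfl⟩
    refine ⟨?_, dvd_mul_right _ _⟩
    by_cases hu0 : u = 0
    · simp [hu0]
    refine Or.inr ?_
    rw [natDegree_mul hne hu0, hdeg]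
    rcases hu with hu | hu
    · exact absurd hu hu0
    · omega

lemma finrank_degreeLT_inf_I (q : k) (n M : ℕ) :
    Module.finrank k (degreeLT k M ⊓ I q n : Submodule k k[X]) = M - n := by
  rw [degreeLT_inf_I, ← (Submodule.equivMapOfInjective _
    (mul_right_injective₀ (pow_ne_zero n (X_sub_C_ne_zero q))) _).finrank_eq,
    (degreeLTEquiv k (M - n)).finrank_eq, Module.finrank_fin_fun]

instance finite_degreeLT (M : ℕ) : FiniteDimensional k (degreeLT k M) :=
  (degreeLTEquiv k M).symm.finiteDimensional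

variable [CharZero k] {m : ℕ} (r : Fin m → k) (a : Fin m → ℕ)

/-- rank of the image under `φ` -/
lemma finrank_map_φ (A : Submodule k k[X]) [FiniteDimensional k A] :
    (E r a ∈ A → Module.finrank k (A.map (φ r a)) + 1 = Module.finrank k A) ∧
      (E r a ∉ A → Module.finrank k (A.map (φ r a)) = Module.finrank k A) := by
  have h := ((φ r a).domRestrict A).finrank_range_add_finrank_ker
  rw [LinearMap.range_domRestrict] at h
  have hE0 : E r a ≠ 0 := (E_monic r a).ne_zero
  constructor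
  · intro hE
    have : LinearMap.ker ((φ r a).domRestrict A) = k ∙ (⟨E r a, hE⟩ : A) := by
      refine le_antisymm (fun x hx => ?_) ((Submodule.span_singleton_le_iff_mem _ _).2 (φ_E r a))
      obtain ⟨c, hc'⟩ := φ_eq_zero r a hx
      have hc : (x : k[X]) = C c * E r a := hc'
      exact Submodule.mem_span_singleton.2 ⟨c, Subtype.ext (by simp [hc, smul_eq_C_mul])⟩
    rw [this, finrank_span_singleton (fun e => hE0 (congrArg Subtype.val e))] at h
    exact h
  · intro hE
    have : LinearMap.ker ((φ r a).domRestrict A) = ⊥ := by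
      refine (Submodule.eq_bot_iff _).2 fun x hx => ?_
      obtain ⟨c, hc'⟩ := φ_eq_zero r a hx
      have hc : (x : k[X]) = C c * E r a := hc'
      refine Subtype.ext ?_
      by_contra hne
      have hc0 : c ≠ 0 := fun e => hne (by simp [hc, e])
      apply hE
      have := A.smul_mem c⁻¹ x.2
      rwa [hc, ← smul_eq_C_mul, smul_smul, inv_mul_cancel₀ hc0, one_smul] at this
    rw [this, finrank_bot, add_zero] at h
    exact h

variable {b N : ℕ}

lemma E_mem_degreeLT (hN : N = (∑ j, a j) + b) {M : ℕ} :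
    E r a ∈ degreeLT k M ↔ (∑ j, a j) < M := by
  rw [mem_degreeLT_iff, natDegree_E]; simp [(E_monic r a).ne_zero]

lemma mem_map_φ_iff {A : Submodule k k[X]} {P : k[X]} :
    φ r a P ∈ A.map (φ r a) ↔ ∃ c, P - C c * E r a ∈ A := by
  constructor
  · rintro ⟨Q, hQ, h⟩
    obtain ⟨c, hc⟩ := φ_eq_zero r a (P := P - Q) (by rw [map_sub, h, sub_self])
    exact ⟨c, by rwa [← hc, sub_sub_cancel]⟩
  · rintro ⟨c, hc⟩
    exact ⟨_, hc, by rw [map_sub, ← smul_eq_C_mul, map_smul, φ_E, smul_zero, sub_zero]⟩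

lemma inf_eq_map (hr : Function.Injective r) (hN : N = (∑ j, a j) + b) (J : Submodule k k[X])
    (A : Submodule k k[X]) (hiff : ∀ P, φ r a P ∈ J ↔ ∃ c, P - C c * E r a ∈ A) :
    V r a b ⊓ J = (degreeLT k (N + 1) ⊓ A).map (φ r a) := by
  rw [V_eq r a hr b N hN]
  refine le_antisymm ?_ ?_
  · rintro _ ⟨⟨P, hP, rfl⟩, hJ⟩
    obtain ⟨c, hc⟩ := (hiff P).1 hJ
    refine (mem_map_φ_iff r a).2 ⟨c, ⟨?_, hc⟩⟩
    refine sub_mem hP ?_
    rw [← smul_eq_C_mul]
    exact Submodule.smul_mem _ _ ((E_mem_degreeLT r a hN).2 (by omega))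
  · rintro _ ⟨P, hP, rfl⟩
    exact ⟨⟨P, hP.1, rfl⟩, (hiff P).2 ⟨0, by simpa using hP.2⟩⟩

lemma inf_I_marked (hr : Function.Injective r) (hN : N = (∑ j, a j) + b) (i : Fin m) (n : ℕ) :
    V r a b ⊓ I (r i) n = (degreeLT k (N + 1) ⊓ I (r i) n).map (φ r a) :=
  inf_eq_map r a hr hN _ _ fun P => by simp only [mem_I]; exact dvd_φ_marked r a hr i n P

lemma inf_I_unmarked (hr : Function.Injective r) (hN : N = (∑ j, a j) + b) {q : k}
    (hq : ∀ j, q ≠ r j) (n : ℕ) :
    V r a b ⊓ I q n = (degreeLT k (N + 1) ⊓ I q (n + 1)).map (φ r a) :=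
  inf_eq_map r a hr hN _ _ fun P => by simp only [mem_I]; exact dvd_φ_unmarked r a hq n P

lemma inf_infty (hr : Function.Injective r) (hN : N = (∑ j, a j) + b) (j : ℕ) (hj : j ≤ N + 1) :
    V r a b ⊓ degreeLT k (N + m - j) = (degreeLT k (N + 1 - j)).map (φ r a) := by
  rw [inf_eq_map r a hr hN _ _ fun P => degree_φ_lt r a N j hj P,
    inf_eq_right.2 (degreeLT_mono (Nat.sub_le _ _))]

lemma finrank_V (hr : Function.Injective r) (hN : N = (∑ j, a j) + b) :
    Module.finrank k (V r a b) = N := by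
  have := (finrank_map_φ r a (degreeLT k (N + 1))).1 ((E_mem_degreeLT r a hN).2 (by omega))
  rw [(degreeLTEquiv k (N + 1)).finrank_eq, Module.finrank_fin_fun] at this
  rw [V_eq r a hr b N hN]; omega

lemma finrank_V_marked (hr : Function.Injective r) (hN : N = (∑ j, a j) + b) (i : Fin m) (n : ℕ) :
    Module.finrank k (V r a b ⊓ I (r i) n : Submodule k k[X]) =
      if n ≤ a i then N - n else N + 1 - n := by
  rw [inf_I_marked r a hr hN i n]
  haveI : FiniteDimensional k (degreeLT k (N + 1) ⊓ I (r i) n : Submodule k k[X]) :=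
    Submodule.finiteDimensional_inf_left _ _
  have h := finrank_map_φ r a (degreeLT k (N + 1) ⊓ I (r i) n)
  rw [finrank_degreeLT_inf_I] at h
  have hiff : E r a ∈ degreeLT k (N + 1) ⊓ I (r i) n ↔ n ≤ a i := by
    rw [Submodule.mem_inf, E_mem_degreeLT r a hN, mem_I, ← le_rootMultiplicity_iff (E_monic r a).ne_zero]
    have hmult : (E r a).rootMultiplicity (r i) = a i := by
      have hE : E r a = (X - C (r i)) ^ (a i) * ∏ j ∈ Finset.univ.erase i, (X - C (r j)) ^ (a j) :=
        (Finset.mul_prod_erase _ _ (Finset.mem_univ i)).symm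
      refine le_antisymm ?_ ((le_rootMultiplicity_iff (E_monic r a).ne_zero).2 ⟨_, hE⟩)
      by_contra hlt
      obtain ⟨c, hc⟩ := (le_rootMultiplicity_iff (E_monic r a).ne_zero).1
        (show a i + 1 ≤ (E r a).rootMultiplicity (r i) by omega)
      have h' := hE.symm.trans hc
      rw [pow_succ, mul_assoc] at h'
      have h'' := congrArg (eval (r i)) (mul_left_cancel₀ (pow_ne_zero _ (X_sub_C_ne_zero (r i))) h')
      simp only [eval_prod, eval_pow, eval_sub, eval_X, eval_C, eval_mul, sub_self, zero_mul] at h''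
      exact Finset.prod_ne_zero_iff.2 (fun j hj =>
        pow_ne_zero _ (sub_ne_zero.2 (hr.ne (Finset.ne_of_mem_erase hj).symm))) h''
    rw [hmult]
    constructor
    · exact fun h => h.2
    · exact fun h => ⟨by omega, h⟩
  split_ifs with hn
  · have := h.1 (hiff.2 hn); omega
  · exact h.2 fun e => hn (hiff.1 e)

lemma finrank_V_infty (hr : Function.Injective r) (hN : N = (∑ j, a j) + b) (n : ℕ) :
    Module.finrank k (V r a b ⊓ degreeLT k (N + m - n) : Submodule k k[X]) =
      if n ≤ b then N - n else N + 1 - n := by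
  rcases Nat.lt_or_ge (N + 1) n with hbig | hsmall
  · have h0 : V r a b ⊓ degreeLT k (N + m - (N + 1)) = ⊥ := by
      rw [inf_infty r a hr hN (N + 1) le_rfl, Nat.sub_self]
      refine (Submodule.eq_bot_iff _).2 ?_
      rintro _ ⟨P, hP, rfl⟩
      rw [SetLike.mem_coe, mem_degreeLT_iff] at hP
      rcases hP with rfl | hP
      · exact map_zero _
      · omega
    rw [if_neg (by omega), Submodule.finrank_eq_zero.2 (eq_bot_iff.2 (le_trans
      (inf_le_inf_left _ (degreeLT_mono (by omega : N + m - n ≤ N + m - (N + 1)))) h0.le))]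
    · omega
  rw [inf_infty r a hr hN n hsmall]
  have h := finrank_map_φ r a (degreeLT k (N + 1 - n))
  rw [(degreeLTEquiv k (N + 1 - n)).finrank_eq, Module.finrank_fin_fun] at h
  have hiff := E_mem_degreeLT r a hN (M := N + 1 - n)
  split_ifs with hn
  · have := h.1 (hiff.2 (by omega)); omega
  · exact h.2 fun e => by have := hiff.1 e; omega

lemma finrank_V_unmarked (hr : Function.Injective r) (hN : N = (∑ j, a j) + b) {q : k}
    (hq : ∀ j, q ≠ r j) (n : ℕ) :
    Module.finrank k (V r a b ⊓ I q n : Submodule k k[X]) = N - n := by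
  rw [inf_I_unmarked r a hr hN hq n]
  haveI : FiniteDimensional k (degreeLT k (N + 1) ⊓ I q (n + 1) : Submodule k k[X]) :=
    Submodule.finiteDimensional_inf_left _ _
  have h := finrank_map_φ r a (degreeLT k (N + 1) ⊓ I q (n + 1))
  rw [finrank_degreeLT_inf_I] at h
  rw [h.2 ?_]
  · omega
  · rintro ⟨-, hE⟩
    apply eval_E_ne_zero r a hq
    exact dvd_iff_isRoot.1 ((dvd_pow_self _ (Nat.succ_ne_zero n)).trans (mem_I.1 hE))

lemma V_finiteDimensional (hr : Function.Injective r) : FiniteDimensional k (V r a b) := by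
  rw [V_eq r a hr b _ rfl]
  infer_instance

lemma unmarked_bot (hr : Function.Injective r) (hN : N = (∑ j, a j) + b) {q : k}
    (hq : ∀ j, q ≠ r j) : V r a b ⊓ I q N = ⊥ := by
  haveI := V_finiteDimensional r a hr (b := b)
  haveI : FiniteDimensional k (V r a b ⊓ I q N : Submodule k k[X]) :=
    Submodule.finiteDimensional_inf_left _ _
  exact Submodule.finrank_eq_zero.1 (by rw [finrank_V_unmarked r a hr hN hq, Nat.sub_self])

omit [CharZero k] in
lemma sum_orders (N a M : ℕ) (ha : a ≤ N) (hM : N ≤ M) :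
    ∑ n ∈ Finset.range M, (if n + 1 ≤ a then N - (n + 1) else N + 1 - (n + 1)) =
      N.choose 2 + (N - a) := by
  rw [← Finset.sum_subset (Finset.range_subset_range.2 hM) (fun n _ hn => by
    rw [Finset.mem_range, not_lt] at hn
    rw [if_neg (by omega)]; omega)]
  have h1 : ∀ n ∈ Finset.range N, (if n + 1 ≤ a then N - (n + 1) else N + 1 - (n + 1)) =
      (N - 1 - n) + (if n + 1 ≤ a then 0 else 1) := fun n hn => by
    rw [Finset.mem_range] at hn; split_ifs <;> omega
  rw [Finset.sum_congr rfl h1, Finset.sum_add_distrib, Finset.sum_range_reflect (fun n => n) N,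
    Finset.sum_range_id, Nat.choose_two_right]
  congr 1
  rw [Finset.sum_ite, Finset.sum_const_zero, zero_add, Finset.sum_const, smul_eq_mul, mul_one,
    show (Finset.range N).filter (fun n => ¬ n + 1 ≤ a) = Finset.Ico a N by
      ext n; simp [Finset.mem_Ico]; omega, Nat.card_Ico]

lemma choose_step (hN : 1 ≤ N) : N.choose 2 = (N - 1).choose 2 + (N - 1) := by
  obtain ⟨c, rfl⟩ : ∃ c, N = c + 1 := ⟨N - 1, by omega⟩
  rw [Nat.choose_succ_succ', Nat.choose_one_right, Nat.add_sub_cancel, Nat.add_comm]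

variable {V₁ : Submodule k k[X]}

/-- splitting the dimensions of a hyperplane -/
lemma finrank_hyperplane (hr : Function.Injective r) (hN : N = (∑ j, a j) + b)
    (hle : V₁ ≤ V r a b) (hfin : Module.finrank k V₁ + 1 = N) (J : Submodule k k[X])
    [Decidable (V r a b ⊓ J ≤ V₁)] :
    Module.finrank k (V₁ ⊓ J : Submodule k k[X]) + (if V r a b ⊓ J ≤ V₁ then 0 else 1) =
      Module.finrank k (V r a b ⊓ J : Submodule k k[X]) := by
  haveI := V_finiteDimensional r a hr (b := b)
  haveI : FiniteDimensional k (V r a b ⊓ J : Submodule k k[X]) :=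
    Submodule.finiteDimensional_inf_left _ _
  haveI : FiniteDimensional k V₁ := Submodule.finiteDimensional_of_le hle
  have heq : V₁ ⊓ J = V₁ ⊓ (V r a b ⊓ J) := by rw [← inf_assoc, inf_eq_left.2 hle]
  have hs := Submodule.finrank_sup_add_finrank_inf_eq V₁ (V r a b ⊓ J)
  rw [← heq] at hs
  split_ifs with hc
  · rw [sup_eq_left.2 hc] at hs; omega
  · have h1 : V₁ < V₁ ⊔ (V r a b ⊓ J) := left_lt_sup.2 hc
    have h2 : V₁ ⊔ (V r a b ⊓ J) ≤ V r a b := sup_le hle inf_le_left
    haveI : FiniteDimensional k (V₁ ⊔ (V r a b ⊓ J) : Submodule k k[X]) :=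
      Submodule.finiteDimensional_of_le h2
    have h3 := Submodule.finrank_lt_finrank_of_lt h1
    have h4 := Submodule.finrank_mono h2
    rw [finrank_V r a hr hN] at h4
    omega

lemma sum_hyperplane (hr : Function.Injective r) (hN : N = (∑ j, a j) + b)
    (hle : V₁ ≤ V r a b) (hfin : Module.finrank k V₁ + 1 = N) (J : ℕ → Submodule k k[X]) (d : ℕ)
    [DecidablePred fun n => ¬ V r a b ⊓ J n ≤ V₁] :
    (∑ n ∈ Finset.range d, Module.finrank k (V₁ ⊓ J n : Submodule k k[X])) +
        ((Finset.range d).filter fun n => ¬ V r a b ⊓ J n ≤ V₁).card =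
      ∑ n ∈ Finset.range d, Module.finrank k (V r a b ⊓ J n : Submodule k k[X]) := by
  classical
  rw [Finset.card_eq_sum_ones, Finset.sum_filter, ← Finset.sum_add_distrib]
  refine Finset.sum_congr rfl fun n _ => ?_
  rw [← finrank_hyperplane r a hr hN hle hfin (J n)]
  split_ifs <;> rfl

lemma inf_I_eq_bot_of_le {U W : Submodule k k[X]} (h : U ≤ W) {J : Submodule k k[X]}
    (h0 : W ⊓ J = ⊥) : U ⊓ J = ⊥ :=
  eq_bot_iff.2 ((inf_le_inf_right J h).trans h0.le)

/-- the unique candidate for a ramification point -/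
lemma line_mem (hr : Function.Injective r) (hN : N = (∑ j, a j) + b) (hb : 1 ≤ b)
    (hle : V₁ ≤ V r a b) {q : k} (hq : ∀ j, q ≠ r j) (hne : V₁ ⊓ I q (N - 1) ≠ ⊥) :
    φ r a ((X - C q) ^ N) ∈ V₁ := by
  obtain ⟨x, hx, hx0⟩ := (Submodule.ne_bot_iff _).1 hne
  have hx' : x ∈ V r a b ⊓ I q (N - 1) := ⟨hle hx.1, hx.2⟩
  rw [inf_I_unmarked r a hr hN hq, degreeLT_inf_I, show N - 1 + 1 = N by omega,
    show N + 1 - N = 1 by omega] at hx'
  obtain ⟨_, ⟨u, hu, rfl⟩, rfl⟩ := hx'
  rw [SetLike.mem_coe, mem_degreeLT_iff] at hu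
  obtain ⟨c, rfl⟩ : ∃ c, u = C c := by
    rcases hu with rfl | hu
    · exact ⟨0, by simp⟩
    · exact ⟨u.coeff 0, eq_C_of_natDegree_eq_zero (by omega)⟩
  have hc : c ≠ 0 := fun h => hx0 (by simp [h])
  have h1 := V₁.smul_mem c⁻¹ hx.1
  rwa [LinearMap.mulLeft_apply, mul_comm, ← smul_eq_C_mul, map_smul, smul_smul, inv_mul_cancel₀ hc,
    one_smul] at h1

lemma two_line_le (hr : Function.Injective r) (hN : N = (∑ j, a j) + b)
    (hle : V₁ ≤ V r a b) (hfin : Module.finrank k V₁ + 1 = N) {q : k} (hq : ∀ j, q ≠ r j)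
    (u : k[X]) (hu : u.natDegree ≤ 1) (hout : 2 ≤ N → φ r a ((X - C q) ^ (N - 1) * u) ∉ V₁) :
    Module.finrank k (V₁ ⊓ I q (N - 2) : Submodule k k[X]) ≤ 1 := by
  classical
  rcases Nat.lt_or_ge N 2 with hN2 | hN2
  · haveI := V_finiteDimensional r a hr (b := b)
    haveI : FiniteDimensional k V₁ := Submodule.finiteDimensional_of_le hle
    refine le_trans (Submodule.finrank_mono inf_le_left) ?_
    omega
  have h := finrank_hyperplane r a hr hN hle hfin (I q (N - 2))
  rw [finrank_V_unmarked r a hr hN hq, if_neg] at h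
  · omega
  · intro hcon
    apply hout hN2 (hcon ?_)
    rw [inf_I_unmarked r a hr hN hq, show N - 2 + 1 = N - 1 by omega]
    refine ⟨_, ⟨?_, mem_I.2 (dvd_mul_right _ _)⟩, rfl⟩
    rw [SetLike.mem_coe, mem_degreeLT_iff]
    refine Or.inr (lt_of_le_of_lt natDegree_mul_le ?_)
    rw [natDegree_pow, natDegree_X_sub_C]; omega

section Hyperplane

variable (hr : Function.Injective r) (hN : N = (∑ j, a j) + b) (hb : 1 ≤ b)
  (hle : V₁ ≤ V r a b) (hfin : Module.finrank k V₁ + 1 = N) (hU : V r a (b - 2) ≤ V₁)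

include hr hN hb hU in
lemma low_mem {P : k[X]} (hP : P ∈ degreeLT k (N - 1)) : φ r a P ∈ V₁ := by
  apply hU
  rw [V_eq r a hr (b - 2) _ rfl]
  exact ⟨P, degreeLT_mono (by omega) hP, rfl⟩

include hr hN hb hle hfin hU in
lemma not_both (h1 : φ r a (X ^ (N - 1)) ∈ V₁) (h2 : φ r a (X ^ N) ∈ V₁) : False := by
  have hmem : ∀ P ∈ degreeLT k (N + 1), φ r a P ∈ V₁ := by
    intro P hP
    rw [mem_degreeLT_iff] at hP
    have hdeg : P.natDegree < N + 1 := by
      rcases hP with rfl | h
      · simp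
      · exact h
    rw [as_sum_range' P (N + 1) hdeg, map_sum]
    refine V₁.sum_mem fun i hi => ?_
    rw [← C_mul_X_pow_eq_monomial, ← smul_eq_C_mul, map_smul]
    refine V₁.smul_mem _ ?_
    rw [Finset.mem_range] at hi
    rcases Nat.lt_or_ge i (N - 1) with h | h
    · exact low_mem r a hr hN hb hU ((mem_degreeLT_iff).2 (Or.inr (by rw [natDegree_X_pow]; exact h)))
    rcases (show i = N - 1 ∨ i = N by omega) with rfl | rfl
    · exact h1
    · exact h2
  have hV : V r a b ≤ V₁ := by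
    rw [V_eq r a hr b N hN]; rintro _ ⟨P, hP, rfl⟩; exact hmem P hP
  haveI := V_finiteDimensional r a hr (b := b)
  haveI : FiniteDimensional k V₁ := Submodule.finiteDimensional_of_le hle
  have := Submodule.finrank_mono hV
  rw [finrank_V r a hr hN] at this
  omega

end Hyperplane

end Wronsk
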